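import Cfsg.Agent.Lib.Fusion.RankThree.Normal.Unmoved.Pair

/-!
The case in which neither centraliser lies in the intersection, and the conclusion.
-/

set_option autoImplicit false
set_option linter.unusedSectionVars false
set_option linter.style.haveILetI false

namespace Cfsg.Agent.Fusion.RankThree.Normal.Unmoved

open Cfsg Cfsg.FusionSystem
open Cfsg.Agent.Fusion Cfsg.Agent.Fusion.Basic Cfsg.Agent.Fusion.Saturation
open Cfsg.Agent.Fusion.RankThree Cfsg.Agent.Fusion.RankThree.Normal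
open Subgroup (zpowers closure mem_zpowers mem_zpowers_iff normalizer centralizer)

variable {X : Type*} [Group X] [Finite X] {p : ℕ} [hp : Fact p.Prime] {F : FusionSystem (⊤ : Subgroup X)}
  {E1 E2 D1 I1 U1 K1 D2 I2 U2 K2 : Subgroup X} {C1 : Subgroup (MulAut E1)}
  {C2 : Subgroup (MulAut E2)} {θ1 θ2 : X → X}

/-- An element of the centraliser outside the other subgroup gives a commutator outside. -/
theorem cm_notMem (hH : Hyp p F) (h1 : Side p F E1 D1 I1 U1 K1 C1 θ1) {e : X} (he : e ∈ E1)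
    (heM : e ∉ Mid E1 U1) {x : X} (hx : x ∉ E1) : cm e x ∉ K1 := by
  intro hcon
  haveI := h1.normE
  haveI := h1.normK
  refine h1.moves fun a ha y => ?_
  have hE : Mid E1 U1 ⊔ zpowers e = E1 := Subgroup.eq_of_le_of_card_ge
    (sup_le inf_le_left (Subgroup.zpowers_le.2 he))
    (by rw [h1.card_Mid hH]; exact mul_card_le_sup hH.grp heM)
  have hle : Mid E1 U1 ⊔ zpowers e ≤ kerI E1 ⊤ K1 := by
    refine sup_le (fun m hm => ⟨(mem_Mid.1 hm).1, fun y _ => h1.Mid_cm hH hm y⟩)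
      (Subgroup.zpowers_le.2 ⟨he, fun y _ => ?_⟩)
    have h3 : E1 ⊔ zpowers x ≤ cmInto e K1 :=
      sup_le (fun u hu => h1.cmK e he u hu) (Subgroup.zpowers_le.2 hcon)
    exact h3 ((sup_eq_top hH h1.ess hx).ge (Subgroup.mem_top y))
  exact (hle (hE.ge ha)).2 y (Subgroup.mem_top y)

set_option maxHeartbeats 1600000 in
theorem outer_false (hH : Hyp p F) (h1 : Side p F E1 D1 I1 U1 K1 C1 θ1)
    (h2 : Side p F E2 D2 I2 U2 K2 C2 θ2) (hne : E1 ≠ E2)
    (hinv2 : ∀ θ : X → X, IsMap F (⊤ : Subgroup X) θ → ∀ v ∈ E2, θ v ∈ E2)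
    (hK : ¬ K1 ≤ E2) (hK2 : ¬ K2 ≤ E1) : False := by
  haveI := h1.normE
  haveI := h2.normE
  haveI := h1.normK
  haveI := h2.normK
  have hT : Two p F E1 E2 := ⟨h1.ess, h2.ess, hne.symm, h1.normE, h2.normE⟩
  obtain ⟨u, huK, huE⟩ := SetLike.not_le_iff_exists.1 hK
  obtain ⟨x, hxK, hxE⟩ := SetLike.not_le_iff_exists.1 hK2
  have hu1 : u ∈ E1 := h1.leK huK
  set T := E1 ⊓ E2 with hTd
  have hT1 : Nat.card E1 = p * Nat.card T := (hT.symm hH).card_inf hH
  have hT2 : Nat.card E2 = p * Nat.card T := by rw [hT.card_inf hH, hTd, inf_comm]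
  -- `T` lies in neither middle subgroup
  have hnot1 : ¬ T ≤ Mid E1 U1 := fun hle => hK (by
    have heq : T = Mid E1 U1 := Subgroup.eq_of_le_of_card_ge hle (by
      rw [h1.card_Mid hH] at hT1; exact (Nat.eq_of_mul_eq_mul_left hp.out.pos hT1).le)
    exact fun k hk => (heq.ge (h1.K_le_Mid hk)).2)
  have hnot2 : ¬ T ≤ Mid E2 U2 := fun hle => hK2 (by
    have heq : T = Mid E2 U2 := Subgroup.eq_of_le_of_card_ge hle (by
      rw [h2.card_Mid hH] at hT2; exact (Nat.eq_of_mul_eq_mul_left hp.out.pos hT2).le)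
    exact fun k hk => (heq.ge (h2.K_le_Mid hk)).1)
  obtain ⟨e, heT, he1, he2⟩ : ∃ e ∈ T, e ∉ Mid E1 U1 ∧ e ∉ Mid E2 U2 := by
    obtain ⟨a, ha, ha'⟩ := SetLike.not_le_iff_exists.1 hnot1
    obtain ⟨b, hb, hb'⟩ := SetLike.not_le_iff_exists.1 hnot2
    by_cases h : a ∈ Mid E2 U2
    · by_cases h' : b ∈ Mid E1 U1
      · exact ⟨a * b, mul_mem ha hb,
          fun hab => ha' ((Subgroup.mul_mem_cancel_right _ h').1 hab),
          fun hab => hb' ((Subgroup.mul_mem_cancel_left _ h).1 hab)⟩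
      · exact ⟨b, hb, h', hb'⟩
    · exact ⟨a, ha, ha', h⟩
  set w := cm e x with hwd
  set w' := cm e u with hwd'
  have hwK1 : w ∉ K1 := cm_notMem hH h1 heT.1 he1 hxE
  have hw'K2 : w' ∉ K2 := cm_notMem hH h2 heT.2 he2 huE
  have hcT : ∀ a b : X, cm a b ∈ T := fun a b => ⟨h1.cm_mem_E hH a b, h2.cm_mem_E hH a b⟩
  have hwK2 : w ∈ K2 := cm_mem' e hxK
  have hw'K1 : w' ∈ K1 := cm_mem' e huK
  -- the Frattini subgroup of `E1`
  set Kt := T ⊓ K1 with hKt
  have hphiKt : phi p E1 ≤ Kt := phi_le_iff.2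
    ⟨fun a ha => ⟨⟨pow_mem ha p, h2.leK (h2.pow_mem' hH a)⟩, h1.powK a ha⟩,
      fun a ha b hb => ⟨hcT a b, h1.cmK a ha b hb⟩⟩
  have heKt : e ∉ Kt := fun h => he1 (h1.K_le_Mid h.2)
  have hwKt : w ∉ Kt ⊔ zpowers e := fun h => by
    haveI : Kt.Normal := inferInstanceAs ((E1 ⊓ E2) ⊓ K1).Normal
    obtain ⟨k, hk, v, hv, hkv⟩ := Subgroup.mem_sup_of_normal_left.1 h
    obtain ⟨n, rfl⟩ := mem_zpowers_iff.1 hv
    have hen : e ^ n ∈ Mid E1 U1 := by
      have h3 := mul_mem (inv_mem (h1.K_le_Mid hk.2)) (h1.cm_mem_Mid hH e x)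
      rwa [← hwd, ← hkv, inv_mul_cancel_left] at h3
    by_cases hn : (p : ℤ) ∣ n
    · obtain ⟨m, rfl⟩ := hn
      refine hwK1 ?_
      rw [← hkv, zpow_mul, zpow_natCast]
      exact mul_mem hk.2 (zpow_mem (h1.powK e heT.1) m)
    · exact he1 (mem_of_zpow hn hen (h1.K_le_Mid (h1.powK e heT.1)))
  have hle3 : Kt ⊔ zpowers e ⊔ zpowers w ≤ T :=
    sup_le (sup_le inf_le_left (Subgroup.zpowers_le.2 heT)) (Subgroup.zpowers_le.2 (hcT e x))
  have huKt : u ∉ Kt ⊔ zpowers e ⊔ zpowers w := fun h => huE (hle3 h).2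
  have hE1card : p ^ 3 * Nat.card Kt ≤ Nat.card E1 := by
    rw [show p ^ 3 * Nat.card Kt = p * (p * (p * Nat.card Kt)) by ring]
    refine (Nat.mul_le_mul_left p (Nat.mul_le_mul_left p (mul_card_le_sup hH.grp heKt))).trans ?_
    refine (Nat.mul_le_mul_left p (mul_card_le_sup hH.grp hwKt)).trans ((mul_card_le_sup hH.grp huKt).trans ?_)
    exact Subgroup.card_le_of_le (sup_le (hle3.trans inf_le_left) (Subgroup.zpowers_le.2 hu1))
  have hE1rank : Nat.card E1 ≤ p ^ 3 * Nat.card (phi p E1) :=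
    sect_card_le hH.rank phi_le (fun a ha b hb => cm_mem_phi ha hb) fun a ha => pow_mem_phi ha
  have hphi : phi p E1 = Kt := Subgroup.eq_of_le_of_card_ge hphiKt
    (Nat.le_of_mul_le_mul_left (hE1card.trans hE1rank) (pow_pos hp.out.pos 3))
  have hE1eq : Nat.card E1 = p ^ 3 * Nat.card Kt := le_antisymm (hphi ▸ hE1rank) hE1card
  -- the intersection of both centralisers
  set G := Kt ⊓ K2 with hG
  haveI hKtn : Kt.Normal := inferInstanceAs ((E1 ⊓ E2) ⊓ K1).Normal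
  haveI hGn : G.Normal := inferInstanceAs (Kt ⊓ K2).Normal
  have hphiT : phi p T ≤ G := phi_le_iff.2
    ⟨fun a ha => ⟨⟨pow_mem ha p, h1.powK a ha.1⟩, h2.powK a ha.2⟩,
      fun a ha b hb => ⟨⟨hcT a b, h1.cmK a ha.1 b hb.1⟩, h2.cmK a ha.2 b hb.2⟩⟩
  have hw'Kt : w' ∈ Kt := ⟨hcT e u, hw'K1⟩
  have hw'G : w' ∉ G := fun h => hw'K2 h.2
  have hTrank : Nat.card T ≤ p ^ 3 * Nat.card (phi p T) :=
    sect_card_le hH.rank phi_le (fun a ha b hb => cm_mem_phi ha hb) fun a ha => pow_mem_phi ha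
  have hTcard : p ^ 3 * Nat.card G ≤ Nat.card T := by
    rw [show p ^ 3 * Nat.card G = p * (p * (p * Nat.card G)) by ring]
    refine (Nat.mul_le_mul_left p (Nat.mul_le_mul_left p ((mul_card_le_sup hH.grp hw'G).trans
      (Subgroup.card_le_of_le (sup_le inf_le_left (Subgroup.zpowers_le.2 hw'Kt)))))).trans ?_
    refine (Nat.mul_le_mul_left p (mul_card_le_sup hH.grp heKt)).trans ((mul_card_le_sup hH.grp hwKt).trans ?_)
    exact Subgroup.card_le_of_le hle3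
  have hphiTeq : phi p T = G := Subgroup.eq_of_le_of_card_ge hphiT
    (Nat.le_of_mul_le_mul_left (hTcard.trans hTrank) (pow_pos hp.out.pos 3))
  have hTeq : Nat.card T = p ^ 3 * Nat.card G := le_antisymm (hphiTeq ▸ hTrank) hTcard
  have hTgen : closure ({e, w, w'} : Set X) = T := by
    refine eq_of_le_sup_phi hH.grp ((Subgroup.closure_le _).2 (by
      rintro a (rfl | rfl | rfl)
      exacts [heT, hcT e x, hcT e u])) ?_
    have hle : G ⊔ zpowers w' ⊔ zpowers e ⊔ zpowers w ≤ closure ({e, w, w'} : Set X) ⊔ phi p T := by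
      refine sup_le (sup_le (sup_le (hphiTeq.ge.trans le_sup_right) ?_) ?_) ?_
      all_goals exact (Subgroup.zpowers_le.2 (Subgroup.subset_closure (by simp))).trans le_sup_left
    refine le_trans (le_of_eq (Subgroup.eq_of_le_of_card_ge ?_ ?_).symm) hle
    · exact sup_le (sup_le (sup_le (inf_le_left.trans inf_le_left) (Subgroup.zpowers_le.2 (hcT e u)))
        (Subgroup.zpowers_le.2 heT)) (Subgroup.zpowers_le.2 (hcT e x))
    · have hGK : G ⊔ zpowers w' ≤ Kt := sup_le inf_le_left (Subgroup.zpowers_le.2 hw'Kt)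
      have a1 : e ∉ G ⊔ zpowers w' := fun h => heKt (hGK h)
      have a2 : w ∉ G ⊔ zpowers w' ⊔ zpowers e := fun h => hwKt (sup_le_sup_right hGK _ h)
      rw [hTeq, show p ^ 3 * Nat.card G = p * (p * (p * Nat.card G)) by ring]
      exact (Nat.mul_le_mul_left p ((Nat.mul_le_mul_left p (mul_card_le_sup hH.grp hw'G)).trans
        (mul_card_le_sup hH.grp a1))).trans (mul_card_le_sup hH.grp a2)
  -- the third term
  set Ys : Set X := {v | (∃ a ∈ E1, v = a ^ p) ∨ ∃ a ∈ E1, ∃ b ∈ E1, ∃ c ∈ E1, v = cm (cm a b) c} with hYs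
  set Y := closure Ys with hY
  have hYa : AInv F E1 Y := by
    refine AInv.closure ?_ fun σ hσ v hv => Subgroup.subset_closure ?_
    · rintro v (⟨a, ha, rfl⟩ | ⟨a, ha, b, hb, c, hc, rfl⟩)
      exacts [pow_mem ha p, h1.cm_mem_E hH _ _]
    · rcases hv with ⟨a, ha, rfl⟩ | ⟨a, ha, b, hb, c, hc, rfl⟩
      · exact Or.inl ⟨_, autFun_mem σ ha, af_pow σ ha p⟩
      · refine Or.inr ⟨_, autFun_mem σ ha, _, autFun_mem σ hb, _, autFun_mem σ hc, ?_⟩
        rw [af_cm σ (h1.cm_mem_E hH a b) hc, af_cm σ ha hb]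
  haveI hYn : Y.Normal := hYa.normal
  have hYG : Y ≤ G := by
    refine (Subgroup.closure_le _).2 ?_
    rintro v (⟨a, ha, rfl⟩ | ⟨a, ha, b, hb, c, hc, rfl⟩)
    · exact ⟨hphi.le (pow_mem_phi ha), h2.pow_mem' hH a⟩
    · exact ⟨⟨hcT _ _, h1.cmK _ (h1.cm_mem_E hH a b) c hc⟩, h2.Mid_cm hH (h2.cm_mem_Mid hH a b) c⟩
  set π := QuotientGroup.mk' Y with hπ
  have hπ1 : ∀ v, π v = 1 ↔ v ∈ Y := fun v => QuotientGroup.eq_one_iff v
  -- `Kt` is central in `E1` modulo `Y`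
  have hKtc : ∀ k ∈ Kt, ∀ b ∈ E1, Commute (π k) (π b) := by
    have hle : phi p E1 ≤ kerI E1 E1 Y := phi_le_iff.2
      ⟨fun a ha => ⟨pow_mem ha p, fun b hb =>
        cm_mem (N := Y) (show a ^ p ∈ Y from Subgroup.subset_closure (Or.inl ⟨a, ha, rfl⟩)) b⟩,
      fun a ha b hb => ⟨h1.cm_mem_E hH a b, fun c hc =>
        Subgroup.subset_closure (Or.inr ⟨a, ha, b, hb, c, hc, rfl⟩)⟩⟩
    intro k hk b hb
    refine cm_eq_one_iff.1 ?_
    rw [← map_cm π]
    exact (hπ1 _).2 ((hle (hphi.ge hk)).2 b hb)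
  set c0 := cm e w with hc0
  have hw1 : w ∈ E1 := h1.cm_mem_E hH e x
  have hw'1 : w' ∈ E1 := h1.cm_mem_E hH e u
  have hc0Kt : c0 ∈ Kt := ⟨hcT e w, h1.cmK e heT.1 w hw1⟩
  -- the Frattini subgroup of `T` modulo `Y`
  have hGc0 : ∀ v ∈ G, ∃ n : ℤ, π v = π c0 ^ n := by
    have hTπ : ∀ a ∈ T, π a ∈ closure ({π e, π w, π w'} : Set (X ⧸ Y)) := fun a ha => by
      have h3 := Subgroup.mem_map_of_mem π (hTgen.ge ha)
      rw [MonoidHom.map_closure] at h3
      refine Subgroup.closure_mono ?_ h3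
      rintro _ ⟨b, hb, rfl⟩
      rcases hb with rfl | rfl | rfl <;> simp
    have hle : phi p T ≤ (zpowers (π c0)).comap π := phi_le_iff.2
      ⟨fun a ha => by
        show π (a ^ p) ∈ zpowers (π c0)
        rw [(hπ1 _).2 (Subgroup.subset_closure (Or.inl ⟨a, ha.1, rfl⟩))]; exact one_mem _,
      fun a ha b hb => by
        show π (cm a b) ∈ zpowers (π c0)
        rw [map_cm π]
        refine cm_closure_mem (s := ({π e, π w, π w'} : Set (X ⧸ Y))) ?_ ?_ _ (hTπ a ha) _ (hTπ b hb)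
        · rintro n hn _ (rfl | rfl | rfl) <;> obtain ⟨i, rfl⟩ := mem_zpowers_iff.1 hn
          exacts [(hKtc c0 hc0Kt e heT.1).zpow_left i, (hKtc c0 hc0Kt w hw1).zpow_left i,
            (hKtc c0 hc0Kt w' hw'1).zpow_left i]
        · have c1 : cm (π e) (π w) = π c0 := by rw [← map_cm π]
          have c2 : cm (π w') (π e) = 1 := cm_eq_one_iff.2 (hKtc w' hw'Kt e heT.1)
          have c3 : cm (π w') (π w) = 1 := cm_eq_one_iff.2 (hKtc w' hw'Kt w hw1)
          have c1' : cm (π w) (π e) = (π c0)⁻¹ := by rw [cm_swap, c1]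
          have c2' : cm (π e) (π w') = 1 := by rw [cm_swap, c2, inv_one]
          have c3' : cm (π w) (π w') = 1 := by rw [cm_swap, c3, inv_one]
          rintro _ (rfl | rfl | rfl) _ (rfl | rfl | rfl)
          all_goals first
            | (rw [cm_self]; exact one_mem _)
            | (rw [c1]; exact mem_zpowers _)
            | (rw [c1']; exact inv_mem (mem_zpowers _))
            | (rw [c2]; exact one_mem _)
            | (rw [c2']; exact one_mem _)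
            | (rw [c3]; exact one_mem _)
            | (rw [c3']; exact one_mem _)⟩
    intro v hv
    obtain ⟨n, hn⟩ := mem_zpowers_iff.1 (hle (hphiTeq.ge hv))
    exact ⟨n, hn.symm⟩
  -- the inversion
  let f : X →* X := MonoidHom.mk' θ1 fun a b => h1.map.map_mul (Subgroup.mem_top a) (Subgroup.mem_top b)
  have hinvKt : ∀ a ∈ T, θ1 a ∈ E1 → ∃ k ∈ Kt, θ1 a = a⁻¹ * k := fun a ha hθa =>
    ⟨a * θ1 a, ⟨⟨mul_mem ha.1 hθa, mul_mem ha.2 (hinv2 θ1 h1.map a ha.2)⟩, h1.inv a ha.1⟩,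
      (inv_mul_cancel_left _ _).symm⟩
  have hθE : ∀ a ∈ E1, θ1 a ∈ E1 := fun a ha => by
    have := mul_mem (inv_mem ha) (h1.leK (h1.inv a ha))
    rwa [inv_mul_cancel_left] at this
  obtain ⟨ke, hke, hθe⟩ := hinvKt e heT (hθE e heT.1)
  obtain ⟨kw, hkw, hθw⟩ := hinvKt w (hcT e x) (hθE w hw1)
  have hKtCI : CI C1 Kt := by
    rw [← hphi]
    exact ⟨phi_le, fun σ hσ => (ainv_phi (p := p) (F := F) (E := E1)).2 σ (h1.cle hσ)⟩
  have hKtidx : Kt.relIndex K1 ≤ p := relIndex_le_of_card inf_le_right (by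
    have h3 := h1.cardK
    rw [hE1eq, show p ^ 3 = p ^ 2 * p by ring, mul_assoc] at h3
    exact (Nat.eq_of_mul_eq_mul_left (pow_pos hp.out.pos 2) h3).ge)
  obtain ⟨ku, hku, hθu⟩ : ∃ k ∈ Kt, θ1 u = u * k :=
    ⟨_, h1.layer Kt hKtn hKtCI inf_le_right hKtidx u huK, (mul_inv_cancel_left _ _).symm⟩
  have hcen : ∀ a ∈ E1, ∀ b ∈ E1, ∀ c ∈ E1, Commute (cm (π a) (π b)) (π c) := fun a ha b hb c hc => by
    rw [← map_cm π]
    exact hKtc _ (hphi.le (cm_mem_phi ha hb)) c hc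
  have hcml : ∀ a ∈ E1, ∀ b ∈ E1, ∀ c ∈ E1, cm (π a * π b) (π c) = cm (π a) (π c) * cm (π b) (π c) :=
    fun a ha b hb c hc => by
      rw [cm_mul_left, mul_assoc _ (cm (π a) (π c)), (hcen a ha c hc b hb).eq, inv_mul_cancel_left]
  have hdrop : ∀ a ∈ E1, ∀ b ∈ E1, ∀ k ∈ Kt, ∀ k' ∈ Kt,
      cm (π (a * k)) (π (b * k')) = cm (π a) (π b) := by
    intro a ha b hb k hk k' hk'
    have hbk : b * k' ∈ E1 := mul_mem hb hk'.1.1
    rw [map_mul π a k, hcml a ha k hk.1.1 (b * k') hbk, cm_eq_one_iff.2 (hKtc k hk _ hbk), mul_one,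
      map_mul π b k', cm_mul_right, cm_eq_one_iff.2 (hKtc k' hk' a ha).symm, one_mul,
      mul_assoc _ (cm (π a) (π b)), (hcen a ha b hb k' hk'.1.1).eq, inv_mul_cancel_left]
  have hinvl : ∀ a ∈ E1, ∀ b ∈ E1, cm (π a⁻¹) (π b) = (cm (π a) (π b))⁻¹ := fun a ha b hb => by
    have h3 := cm_pow_left (a := π a) (b := π b) (hcen a ha b hb a ha) (-1)
    rwa [zpow_neg_one, zpow_neg_one, ← map_inv] at h3
  have hinvr : ∀ a ∈ E1, ∀ b ∈ E1, cm (π a) (π b⁻¹) = (cm (π a) (π b))⁻¹ := fun a ha b hb => by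
    have h3 := cm_pow_right (a := π a) (b := π b) (hcen a ha b hb b hb) (-1)
    rwa [zpow_neg_one, zpow_neg_one, ← map_inv] at h3
  -- the commutator of `w` and `u` is trivial modulo `Y`
  set w'' := cm w u with hw''
  have hw''G : w'' ∈ G := ⟨⟨hcT w u, cm_mem' w huK⟩, cm_mem hwK2 u⟩
  obtain ⟨n, hn⟩ := hGc0 w'' hw''G
  have hw''Y : π w'' = 1 := by
    have e1 : π (θ1 c0) = π c0 := by
      rw [show θ1 c0 = f (cm e w) from rfl, map_cm f, show f e = θ1 e from rfl, show f w = θ1 w from rfl,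
        hθe, hθw, map_cm π, hdrop _ (inv_mem heT.1) _ (inv_mem hw1) _ hke _ hkw,
        hinvl e heT.1 _ (inv_mem hw1), hinvr e heT.1 w hw1, inv_inv, ← map_cm π, ← hc0]
    have e2 : π (θ1 w'') = (π w'')⁻¹ := by
      rw [show θ1 w'' = f (cm w u) from rfl, map_cm f, show f w = θ1 w from rfl, show f u = θ1 u from rfl,
        hθw, hθu, map_cm π, hdrop _ (inv_mem hw1) _ hu1 _ hkw _ hku, hinvl w hw1 u hu1, ← map_cm π, ← hw'']
    have hmem : (c0 ^ n)⁻¹ * w'' ∈ Y := by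
      rw [← hπ1, map_mul, map_inv, map_zpow, ← hn, inv_mul_cancel]
    have hθY : ∀ v ∈ Y, θ1 v ∈ Y := by
      intro v hv
      have hmap : Y.map f ≤ Y := by
        rw [hY, MonoidHom.map_closure]
        refine Subgroup.closure_mono ?_
        rintro _ ⟨v, (⟨a, ha, rfl⟩ | ⟨a, ha, b, hb, c, hc, rfl⟩), rfl⟩
        · exact Or.inl ⟨θ1 a, hθE a ha, map_pow f a p⟩
        · exact Or.inr ⟨θ1 a, hθE a ha, θ1 b, hθE b hb, θ1 c, hθE c hc, by rw [map_cm f, map_cm f]; rfl⟩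
      exact hmap ⟨v, hv, rfl⟩
    have e3 : π (θ1 w'') = π (θ1 c0) ^ n := by
      have h3 := (hπ1 _).2 (hθY _ hmem)
      rw [show θ1 ((c0 ^ n)⁻¹ * w'') = f ((c0 ^ n)⁻¹ * w'') from rfl, map_mul f, map_inv f, map_zpow f,
        map_mul π, map_inv π, map_zpow π, inv_mul_eq_one] at h3
      exact h3.symm
    rw [e1, e2, ← hn] at e3
    refine (hπ1 _).2 (mem_of_sq hH.odd ?_ (Subgroup.subset_closure (Or.inl ⟨w'', hw''G.1.1.1, rfl⟩)))
    rw [← hπ1, map_pow, pow_two]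
    nth_rewrite 1 [← e3]
    exact inv_mul_cancel _
  -- the contradiction
  set R := kerI E1 K1 Y with hR
  have hRC : CI C1 R := CI.kerI ⟨le_rfl, fun σ _ v hv => autFun_mem σ hv⟩ h1.ciK
    ⟨hYa.1, fun σ hσ => hYa.2 σ (h1.cle hσ)⟩
  have hKgen : Kt ⊔ zpowers u = K1 := by
    refine Subgroup.eq_of_le_of_card_ge (sup_le inf_le_right (Subgroup.zpowers_le.2 huK)) ?_
    have h3 := h1.cardK
    rw [hE1eq, show p ^ 3 = p ^ 2 * p by ring, mul_assoc] at h3
    rw [← Nat.eq_of_mul_eq_mul_left (pow_pos hp.out.pos 2) h3]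
    exact mul_card_le_sup hH.grp fun h => huE h.1.2
  have hKR : K1 ≤ R := by
    intro k hk
    refine ⟨h1.leK hk, fun k' hk' => ?_⟩
    have hle : ∀ a ∈ E1, cm a u ∈ Y → K1 ≤ cmInto a Y := fun a ha hau => by
      rw [← hKgen]
      refine sup_le (fun c hc => ?_) (Subgroup.zpowers_le.2 hau)
      show cm a c ∈ Y
      rw [← hπ1, map_cm π, cm_eq_one_iff.2 (hKtc c hc a ha).symm]
    have hu' : cm k u ∈ Y := by
      have h3 := hle u hu1 (by rw [cm_self]; exact one_mem _) hk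
      rw [cm_swap]; exact inv_mem h3
    exact hle k (h1.leK hk) hu' hk'
  have hwR : w ∈ R := by
    refine ⟨hw1, fun k hk => ?_⟩
    have hle : K1 ≤ cmInto w Y := by
      rw [← hKgen]
      refine sup_le (fun c hc => ?_) (Subgroup.zpowers_le.2 ((hπ1 _).1 hw''Y))
      show cm w c ∈ Y
      rw [← hπ1, map_cm π, cm_eq_one_iff.2 (hKtc c hc w hw1).symm]
    exact hle hk
  rcases h1.irr R hRC hKR with h | h
  · exact hwK1 (h.le hwR)
  · exact hw'K2 (hYG ((h.ge heT.1).2 u huK)).2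

/-- Of two invariant essential subgroups one moves the elements of order `p` of the centre. -/
theorem moved_pair (hH : Hyp p F) (hT : Two p F E1 E2)
    (hinv1 : ∀ θ : X → X, IsMap F (⊤ : Subgroup X) θ → ∀ v ∈ E1, θ v ∈ E1)
    (hinv2 : ∀ θ : X → X, IsMap F (⊤ : Subgroup X) θ → ∀ v ∈ E2, θ v ∈ E2) :
    Moved p F E1 ∨ Moved p F E2 := by
  by_contra hcon
  simp only [Moved, not_or, not_and, not_not] at hcon
  haveI := hT.leftN
  haveI := hT.rightN
  obtain ⟨D1, I1, U1, K1, C1, θ1, h1⟩ := exists_side hH hT.left (hcon.1 hT.left)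
  obtain ⟨D2, I2, U2, K2, C2, θ2, h2⟩ := exists_side hH hT.right (hcon.2 hT.right)
  by_cases hK : K1 ≤ E2
  · by_cases hK2 : K2 ≤ E1
    · exact both_false hH h1 h2 hT.ne.symm hinv1 hinv2 hK hK2
    · exact mixed_false hH h1 h2 hT.ne.symm hinv1 hinv2 hK hK2
  · by_cases hK2 : K2 ≤ E1
    · exact mixed_false hH h2 h1 hT.ne hinv2 hinv1 hK2 hK
    · exact outer_false hH h1 h2 hT.ne.symm hinv2 hK hK2

end Cfsg.Agent.Fusion.RankThree.Normal.Unmoved
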