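import Cfsg.Agent.Lib.Fusion.RankThree.Normal.Other
import Cfsg.Agent.Lib.Fusion.RankThree.Normal.Inversion
import Cfsg.Agent.Lib.Fusion.RankThree.Normal.Omega1
import Cfsg.Agent.Lib.Fusion.RankThree.Normal.Block
import Cfsg.Agent.OddLocal.Coprime

/-!
An essential subgroup fixing the elements of order `p` of the centre: the group generated by a pair of
`p`-automorphisms and its series.
-/

set_option autoImplicit false
set_option linter.unusedSectionVars false
set_option linter.style.haveILetI false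

namespace Cfsg.Agent.Fusion.RankThree.Normal.Unmoved

open Cfsg Cfsg.FusionSystem
open Cfsg.Agent.Fusion Cfsg.Agent.Fusion.Basic Cfsg.Agent.Fusion.Saturation
open Cfsg.Agent.Fusion.RankThree Cfsg.Agent.Fusion.RankThree.Normal
open Subgroup (zpowers closure mem_zpowers mem_zpowers_iff normalizer)

variable {X : Type*} [Group X] [Finite X] {p : ℕ} [hp : Fact p.Prime] {F : FusionSystem (⊤ : Subgroup X)}
  {E : Subgroup X}

/-- A nontrivial step of a normal series meets the centre of the quotient. -/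
theorem exists_step (hX : IsPGroup p X) {N H : Subgroup X} [N.Normal] [hH : H.Normal] (h : ¬ H ≤ N) :
    ∃ d ∈ H, d ∉ N ∧ ∀ g : X, cm d g ∈ N := by
  haveI : Group.IsNilpotent (X ⧸ N) := (hX.to_quotient N).isNilpotent
  have hn : (H.map (QuotientGroup.mk' N)).Normal := hH.map _ (QuotientGroup.mk'_surjective N)
  have hne : H.map (QuotientGroup.mk' N) ≠ ⊥ := fun h0 => h (by
    rwa [Subgroup.map_eq_bot_iff, QuotientGroup.ker_mk'] at h0)
  obtain ⟨q, ⟨hq, hqc⟩, hq1⟩ :=
    (Subgroup.bot_or_exists_ne_one _).resolve_left (OddLocal.Coprime.inf_center_ne_bot hn hne)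
  obtain ⟨d, hd, rfl⟩ := hq
  refine ⟨d, hd, fun hdN => hq1 ((QuotientGroup.eq_one_iff d).2 hdN), fun g => ?_⟩
  exact mk_cm_eq_one_iff.1 ((Subgroup.mem_center_iff.1 hqc _).symm : Commute _ (QuotientGroup.mk' N g))

/-- A nontrivial normal subgroup meets `omegaX`. -/
theorem inf_omegaX_ne_bot (hX : IsPGroup p X) {H : Subgroup X} [H.Normal] (h : H ≠ ⊥) :
    H ⊓ omegaX p X ≠ ⊥ := by
  obtain ⟨d, hd, hd1, hc⟩ := exists_step hX (N := ⊥) (H := H) (fun hle => h (le_bot_iff.1 hle))
  rw [Subgroup.mem_bot] at hd1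
  obtain ⟨n, hn⟩ := IsPGroup.iff_orderOf.1 hX d
  obtain ⟨m, rfl⟩ : ∃ m, n = m + 1 :=
    Nat.exists_eq_succ_of_ne_zero fun h0 => hd1 (orderOf_eq_one_iff.1 (by rw [hn, h0, pow_zero]))
  intro h0
  have hv : d ^ p ^ m ∈ H ⊓ omegaX p X := by
    refine ⟨pow_mem hd _, Subgroup.mem_top _, ?_, fun g _ => ?_⟩
    · rw [← pow_mul, ← pow_succ, ← hn, pow_orderOf_eq_one]
    · exact (cm_eq_one_iff.1 (Subgroup.mem_bot.1 (hc g))).pow_left _
  rw [h0, Subgroup.mem_bot] at hv
  have hdvd := orderOf_dvd_of_pow_eq_one hv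
  rw [hn, Nat.pow_dvd_pow_iff_le_right hp.out.one_lt] at hdvd
  omega

/-- The group generated by the pair. -/
noncomputable abbrev pairC (E : Subgroup X) (x : X) (g : MulAut E) : Subgroup (MulAut E) :=
  closure {cA E x, g * cA E x * g⁻¹}

/-- Invariance under a group of automorphisms. -/
def CI (C : Subgroup (MulAut E)) (U : Subgroup X) : Prop :=
  U ≤ E ∧ ∀ σ ∈ C, ∀ v ∈ U, autFun σ v ∈ U

theorem CI.inf {C : Subgroup (MulAut E)} {U V : Subgroup X} (hU : CI C U) (hV : CI C V) : CI C (U ⊓ V) :=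
  ⟨inf_le_left.trans hU.1, fun a ha v hv => ⟨hU.2 a ha v hv.1, hV.2 a ha v hv.2⟩⟩

theorem CI.sup {C : Subgroup (MulAut E)} {U V : Subgroup X} (hU : CI C U) (hV : CI C V) :
    CI C (U ⊔ V) := by
  refine ⟨sup_le hU.1 hV.1, fun a ha v hv => ?_⟩
  rw [← Subgroup.closure_eq U, ← Subgroup.closure_eq V, ← Subgroup.closure_union] at hv ⊢
  induction hv using Subgroup.closure_induction with
  | mem v hv => exact Subgroup.subset_closure (hv.imp (hU.2 a ha v) (hV.2 a ha v))
  | one => rw [af_one']; exact one_mem _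
  | mul u w hu hw ihu ihw =>
    have hle : closure ((U : Set X) ∪ V) ≤ E :=
      (Subgroup.closure_le E).2 (Set.union_subset hU.1 hV.1)
    rw [af_mul a (hle hu) (hle hw)]
    exact mul_mem ihu ihw
  | inv u hu ihu =>
    have hle : closure ((U : Set X) ∪ V) ≤ E :=
      (Subgroup.closure_le E).2 (Set.union_subset hU.1 hV.1)
    rw [af_inv a (hle hu)]
    exact inv_mem ihu

/-- Some element of `C` has no `p`-power fixing `Y` pointwise. -/
def Det (p : ℕ) (C : Subgroup (MulAut E)) (Y : Subgroup X) : Prop :=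
  ¬ ∀ σ ∈ C, ∃ k : ℕ, ∀ v ∈ Y, autFun (σ ^ p ^ k) v = v

section

variable (hH : Hyp p F) (hE : F.IsEssential p E) [hEn : E.Normal] (hZ : AInv F E (omegaX p X))
  {x : X} (hx : x ∉ E) {g : MulAut E} (hg : g ∈ F.autGroup E)
  (hgR : g * cA E x * g⁻¹ ∉ autInducedBy (⊤ : Subgroup X) E)
include hH hE hEn hZ hx hg hgR

theorem pairC_le : pairC E x g ≤ F.autGroup E :=
  (Subgroup.closure_le _).2 (by
    rintro _ (rfl | rfl)
    exacts [cA_mem x, mul_mem (mul_mem hg (cA_mem x)) (inv_mem hg)])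

theorem ci_of_ainv {U : Subgroup X} (h : AInv F E U) : CI (pairC E x g) U :=
  ⟨h.1, fun a ha => h.2 a (pairC_le hH hE hZ hx hg hgR ha)⟩

theorem pairC_fix {σ : MulAut E} (hσ : σ ∈ pairC E x g) {v : X} (hv : v ∈ omegaX p X) :
    autFun σ v = v := by
  have hα : ∀ v ∈ omegaX p X, autFun (cA E x) v = v := fun v hv => by
    rw [cA_apply x (hZ.1 hv), (hv.2.2 x (Subgroup.mem_top x)).symm.eq, mul_inv_cancel_right]
  induction hσ using Subgroup.closure_induction generalizing v with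
  | mem σ hσ =>
    rcases hσ with rfl | rfl
    · exact hα v hv
    · rw [autFun_mul, autFun_mul, hα _ (hZ.2 _ (inv_mem hg) v hv), autFun_apply_inv]
  | one => rw [autFun_one]; rfl
  | mul a b _ _ iha ihb => rw [autFun_mul, ihb hv, iha hv]
  | inv a _ iha => conv_lhs => rw [← iha hv, autFun_inv_apply]

theorem exists_pow_gen {σ : MulAut E} (hσ : σ ∈ ({cA E x, g * cA E x * g⁻¹} : Set (MulAut E))) :
    ∃ k : ℕ, σ ^ p ^ k = 1 := by
  obtain ⟨k, hk⟩ := exists_pow_cA hH hE x
  refine ⟨k, ?_⟩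
  rcases hσ with rfl | rfl
  · exact hk
  · rw [conj_pow, hk, mul_one, mul_inv_cancel]

/-- Elements of the pair group fix the cosets in a step of index at most `p`. -/
theorem step_C {A Y : Subgroup X} (hA : CI (pairC E x g) A) (hY : CI (pairC E x g) Y) (hAY : A ≤ Y)
    (hidx : A.relIndex Y ≤ p) : ∀ σ ∈ pairC E x g, ∀ v ∈ Y, v⁻¹ * autFun σ v ∈ A := by
  intro σ hσ v hv
  refine stab_closure (E := E) (C := fun i => if i = 0 then A else Y) (n := 1) (fun i hi => ?_)
    (fun i _ => ?_) (fun a ha i hi w hw => ?_) σ hσ 0 one_pos v hv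
  · obtain rfl : i = 0 := by omega
    exact hAY
  · split_ifs
    exacts [hA.1, hY.1]
  · obtain rfl : i = 0 := by omega
    obtain ⟨k, hk⟩ := exists_pow_gen hH hE hZ hx hg hgR ha
    exact step hA.1 hY.1 hidx (hA.2 a (Subgroup.subset_closure ha)) (hY.2 a (Subgroup.subset_closure ha))
      hk w hw

/-- A series with small steps over fixed points is not detecting. -/
theorem not_det {I A Y : Subgroup X} (hI : I ≤ omegaX p X) (hA : CI (pairC E x g) A)
    (hY : CI (pairC E x g) Y) (hIC : CI (pairC E x g) I) (hIA : I ≤ A) (hAY : A ≤ Y)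
    (h1 : I.relIndex A ≤ p) (h2 : A.relIndex Y ≤ p) : ¬ Det p (pairC E x g) Y := by
  rw [Det, not_not]
  refine exists_pow_fix hH.grp hY.1 (C := fun i => match i with | 0 => ⊥ | 1 => I | 2 => A | _ => Y)
    (n := 3) rfl rfl (fun i hi => ?_) (fun i hi => ?_) (fun a ha => hY.2 a (Subgroup.subset_closure ha))
    fun a ha i hi v hv => ?_
  · interval_cases i
    exacts [bot_le, hIA, hAY]
  · interval_cases i
    exacts [bot_le, hIA.trans hAY, hAY, le_rfl]
  · have ha' : a ∈ pairC E x g := Subgroup.subset_closure ha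
    interval_cases i
    · exact Subgroup.mem_bot.2 (by rw [pairC_fix hH hE hZ hx hg hgR ha' (hI hv), inv_mul_cancel])
    · exact step_C hH hE hZ hx hg hgR hIC hA hIA h1 a ha' v hv
    · exact step_C hH hE hZ hx hg hgR hA hY hAY h2 a ha' v hv

/-- Detection passes to invariant subgroups of index at most `p`. -/
theorem det_sub {A Y : Subgroup X} (hA : CI (pairC E x g) A) (hY : CI (pairC E x g) Y) (hAY : A ≤ Y)
    (hidx : A.relIndex Y ≤ p) (h : Det p (pairC E x g) Y) : Det p (pairC E x g) A := by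
  intro hall
  refine h fun σ hσ => ?_
  obtain ⟨k, hk⟩ := hall σ hσ
  obtain ⟨n, hn⟩ := IsPGroup.iff_card.1 (hH.grp.to_subgroup A)
  refine ⟨k + n, fun v hv => ?_⟩
  set τ := σ ^ p ^ k with hτ
  set c := v⁻¹ * autFun τ v with hc
  have hcA' : c ∈ A := step_C hH hE hZ hx hg hgR hA hY hAY hidx τ (pow_mem hσ _) v hv
  have hm : ∀ m : ℕ, autFun (τ ^ m) v = v * c ^ m := by
    intro m
    induction m with
    | zero => rw [pow_zero, autFun_one, id, pow_zero, mul_one]
    | succ m ih =>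
      rw [pow_succ', autFun_mul, ih, af_mul τ (hY.1 hv) (hA.1 (pow_mem hcA' m)), hk _ (pow_mem hcA' m),
        hc, pow_succ', ← mul_assoc, ← mul_assoc, mul_inv_cancel]
      group
  rw [pow_add, pow_mul, ← hτ, hm, ← hn, show c ^ Nat.card A = 1 from
    congrArg Subtype.val (pow_card_eq_one' (x := (⟨c, hcA'⟩ : A))), mul_one]

theorem exists_notFix : ∃ σ ∈ pairC E x g, ∀ j : ℕ, σ ^ p ^ j ≠ 1 := by
  by_contra hcon
  push Not at hcon
  refine pair_not_pgroup hH hE hx hg hgR fun σ => ?_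
  obtain ⟨j, hj⟩ := hcon σ σ.2
  exact ⟨j, Subtype.ext (by simpa using hj)⟩

end

end Cfsg.Agent.Fusion.RankThree.Normal.Unmoved
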