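import Cfsg.Agent.Lib.Fusion.RankThree.Normal.Unmoved.Basic
import Cfsg.Agent.Lib.Fusion.RankThree.Normal.SylowSp

/-!
An invariant subgroup of order `p ^ 3` with a central line on which the pair group acts as on a natural
module.
-/

set_option autoImplicit false
set_option linter.unusedSectionVars false
set_option linter.style.haveILetI false

namespace Cfsg.Agent.Fusion.RankThree.Normal.Unmoved

open Cfsg Cfsg.FusionSystem
open Cfsg.Agent.Fusion Cfsg.Agent.Fusion.Basic Cfsg.Agent.Fusion.Saturation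
open Cfsg.Agent.Fusion.RankThree Cfsg.Agent.Fusion.RankThree.Normal
open Subgroup (zpowers closure mem_zpowers mem_zpowers_iff normalizer)

variable {X : Type*} [Group X] [Finite X] {p : ℕ} [hp : Fact p.Prime] {F : FusionSystem (⊤ : Subgroup X)}
  {E : Subgroup X}

/-- The elements of `Y` centralising `P` modulo `I`. -/
def kerI (Y P I : Subgroup X) [hI : I.Normal] : Subgroup X where
  carrier := {d | d ∈ Y ∧ ∀ e ∈ P, cm d e ∈ I}
  one_mem' := ⟨one_mem _, fun e _ => by rw [cm_one_left]; exact one_mem _⟩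
  mul_mem' := by
    rintro a b ⟨ha, ha'⟩ ⟨hb, hb'⟩
    refine ⟨mul_mem ha hb, fun e he => ?_⟩
    rw [cm_mul_left]
    refine mul_mem ?_ (hb' e he)
    have := hI.conj_mem _ (ha' e he) b⁻¹
    rwa [inv_inv] at this
  inv_mem' := by
    rintro a ⟨ha, ha'⟩
    refine ⟨inv_mem ha, fun e he => ?_⟩
    rw [show cm a⁻¹ e = a * (cm a e)⁻¹ * a⁻¹ by rw [cm_def, cm_def]; group]
    exact hI.conj_mem _ (inv_mem (ha' e he)) a

/-- The elements with commutator with `d` in `I`. -/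
def cmInto (d : X) (I : Subgroup X) [hI : I.Normal] : Subgroup X where
  carrier := {e | cm d e ∈ I}
  one_mem' := by show cm d 1 ∈ I; rw [cm_one_right]; exact one_mem _
  mul_mem' := by
    intro a b ha hb
    show cm d (a * b) ∈ I
    rw [cm_mul_right]
    refine mul_mem hb ?_
    have := hI.conj_mem _ ha b⁻¹
    rwa [inv_inv] at this
  inv_mem' := by
    intro a ha
    show cm d a⁻¹ ∈ I
    rw [show cm d a⁻¹ = a * (cm d a)⁻¹ * a⁻¹ by rw [cm_def, cm_def]; group]
    exact hI.conj_mem _ (inv_mem ha) a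

theorem kerI_normal {Y P I : Subgroup X} [hI : I.Normal] [hY : Y.Normal] [hP : P.Normal] :
    (kerI Y P I).Normal := by
  refine ⟨fun d hd g => ⟨hY.conj_mem d hd.1 g, fun e he => ?_⟩⟩
  have h1 := hI.conj_mem _ (hd.2 (g⁻¹ * e * g) (by simpa using hP.conj_mem e he g⁻¹)) g
  rwa [show g * cm d (g⁻¹ * e * g) * g⁻¹ = cm (g * d * g⁻¹) e by rw [cm_def, cm_def]; group] at h1

theorem CI.kerI {C : Subgroup (MulAut E)} {Y P I : Subgroup X} [I.Normal] (hY : CI C Y) (hP : CI C P)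
    (hI : CI C I) : CI C (kerI Y P I) := by
  refine ⟨fun d hd => hY.1 hd.1, fun σ hσ d hd => ⟨hY.2 σ hσ d hd.1, fun e he => ?_⟩⟩
  have h1 := hP.2 _ (inv_mem hσ) e he
  have h2 := hI.2 σ hσ _ (hd.2 _ h1)
  rwa [af_cm σ (hY.1 hd.1) (hP.1 h1), autFun_apply_inv] at h2

theorem relIndex_le_of_card {A B : Subgroup X} (h : A ≤ B) {n : ℕ}
    (hc : Nat.card B ≤ n * Nat.card A) : A.relIndex B ≤ n := by
  have h1 := Subgroup.relIndex_mul_relIndex (⊥ : Subgroup X) A B bot_le h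
  rw [Subgroup.relIndex_bot_left, Subgroup.relIndex_bot_left] at h1
  rw [← h1, mul_comm] at hc
  exact Nat.le_of_mul_le_mul_right hc Nat.card_pos

/-- The configuration of a natural module over a central line. -/
structure Core (p : ℕ) (C : Subgroup (MulAut E)) (D I : Subgroup X) : Prop where
  ciD : CI C D
  ciI : CI C I
  normalD : D.Normal
  le : I ≤ D
  cardI : Nat.card I = p
  central : I ≤ omegaX p X
  cardD : Nat.card D = p ^ 3
  exp : ∀ v ∈ D, v ^ p = 1
  det : Det p C D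
  noncentral : ∃ d ∈ D, ∃ e ∈ E, ¬ Commute d e

section

variable (hH : Hyp p F) (hE : F.IsEssential p E) [hEn : E.Normal] (hZ : AInv F E (omegaX p X))
  {x : X} (hx : x ∉ E) {g : MulAut E} (hg : g ∈ F.autGroup E)
  (hgR : g * cA E x * g⁻¹ ∉ autInducedBy (⊤ : Subgroup X) E)
include hH hE hEn hZ hx hg hgR

theorem ci_self : CI (pairC E x g) E := ci_of_ainv hH hE hZ hx hg hgR ainv_self

theorem normal_of_ci {U : Subgroup X} (hU : CI (pairC E x g) U)
    (h : ∀ v ∈ U, ∀ e ∈ E, cm v e ∈ U) : U.Normal := by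
  refine ⟨fun v hv y => ?_⟩
  obtain ⟨e, he, n, rfl⟩ := decomp hH hE hx y
  have hα : cA E x ∈ pairC E x g := Subgroup.subset_closure (Or.inl rfl)
  have h1 := hU.2 _ (zpow_mem hα n) v hv
  rw [← cA_zpow, cA_apply _ (hU.1 hv)] at h1
  have h2 := mul_mem h1 (h _ h1 e⁻¹ (inv_mem he))
  rwa [show x ^ n * v * (x ^ n)⁻¹ * cm (x ^ n * v * (x ^ n)⁻¹) e⁻¹ =
    e * x ^ n * v * (e * x ^ n)⁻¹ by rw [cm_def]; group] at h2

set_option maxHeartbeats 1600000 in
/-- The configuration exists. -/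
theorem exists_core : ∃ D I : Subgroup X, Core p (pairC E x g) D I := by
  have hC := pairC_le hH hE hZ hx hg hgR
  obtain ⟨D', hD'c, hD'p, hD'2, hD'det⟩ := exists_detecting (hH.grp.to_subgroup E) hH.odd
  set D0 := D'.map E.subtype with hD0
  have hmem : ∀ {v : X} (hv : v ∈ E), v ∈ D0 ↔ (⟨v, hv⟩ : E) ∈ D' := fun {v} hv => by
    rw [hD0]
    exact ⟨by rintro ⟨u, hu, rfl⟩; exact hu, fun h => ⟨_, h, rfl⟩⟩
  have hD0E : D0 ≤ E := Subgroup.map_subtype_le D'
  have hD0a : AInv F E D0 := by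
    refine ⟨hD0E, fun a _ v hv => ?_⟩
    rw [autFun_of_mem a (hD0E hv)]
    exact ⟨_, hD'c a _ ((hmem (hD0E hv)).1 hv), rfl⟩
  have hD0C : CI (pairC E x g) D0 := ci_of_ainv hH hE hZ hx hg hgR hD0a
  haveI hD0n : D0.Normal := hD0a.normal
  have hexp : ∀ v ∈ D0, v ^ p = 1 := by
    rintro _ ⟨u, hu, rfl⟩
    rw [← map_pow, hD'p u hu, map_one]
  have hcls : ∀ u ∈ D0, ∀ v ∈ D0, ∀ d ∈ D0, Commute (cm u v) d := by
    rintro _ ⟨u, hu, rfl⟩ _ ⟨v, hv, rfl⟩ _ ⟨d, hd, rfl⟩
    rw [← map_cm E.subtype]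
    exact (hD'2 u hu v hv d hd).map E.subtype
  have hdetect : ∀ σ : MulAut E, (∀ v ∈ D0, autFun σ v = v) → ∃ j : ℕ, σ ^ p ^ j = 1 := fun σ hσ =>
    hD'det σ fun v hv => Subtype.ext (by rw [← autFun_apply]; exact hσ _ ⟨v, hv, rfl⟩)
  have hDet : Det p (pairC E x g) D0 := by
    intro hall
    obtain ⟨σ, hσ, hne⟩ := exists_notFix hH hE hZ hx hg hgR
    obtain ⟨k, hk⟩ := hall σ hσ
    obtain ⟨j, hj⟩ := hdetect _ hk
    exact hne (k + j) (by rw [pow_add, pow_mul, hj])
  have hD0ne : D0 ≠ ⊥ := fun h0 => hDet fun σ _ => ⟨0, fun v hv => by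
    rw [h0, Subgroup.mem_bot] at hv; rw [hv, af_one']⟩
  have hΩ : CI (pairC E x g) (omegaX p X) := ci_of_ainv hH hE hZ hx hg hgR hZ
  have hpp := hp.out.one_lt
  by_cases hab : ∀ u ∈ D0, ∀ v ∈ D0, Commute u v
  · -- abelian
    set I0 := D0 ⊓ omegaX p X with hI0
    have hI0C : CI (pairC E x g) I0 := hD0C.inf hΩ
    have h0 : I0 ≠ ⊥ := inf_omegaX_ne_bot hH.grp hD0ne
    obtain ⟨a, ha⟩ := IsPGroup.iff_card.1 (hH.grp.to_subgroup D0)
    obtain ⟨b, hb⟩ := IsPGroup.iff_card.1 (hH.grp.to_subgroup I0)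
    have ha3 : a ≤ 3 := (Nat.pow_le_pow_iff_right hpp).1 (ha ▸ elem_le hH.rank ⟨hab, hexp⟩)
    have hb1 : b ≠ 0 := fun hb0 => h0 (Subgroup.card_eq_one.1 (by rw [hb, hb0, pow_zero]))
    by_cases hab' : a ≤ b + 1
    · refine absurd hDet (not_det hH hE hZ hx hg hgR inf_le_right hI0C hD0C hI0C le_rfl inf_le_left
        (by rw [Subgroup.relIndex_self]; exact hp.out.pos) (relIndex_le_of_card inf_le_left ?_))
      rw [← hI0, ha, hb, ← pow_succ']
      exact Nat.pow_le_pow_right hp.out.pos hab'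
    obtain ⟨rfl, rfl⟩ : a = 3 ∧ b = 1 := by omega
    refine ⟨D0, I0, hD0C, hI0C, hD0n, inf_le_left, by rw [hb, pow_one], inf_le_right, ha, hexp, hDet, ?_⟩
    by_contra hcon
    push Not at hcon
    -- `D0` is central in `E`
    haveI : (omegaX p X).Normal := ⟨fun v hv y => by
      rw [(hv.2.2 y (Subgroup.mem_top y)).symm.eq, mul_inv_cancel_right]; exact hv⟩
    haveI hI0n : I0.Normal := inferInstanceAs (D0 ⊓ omegaX p X).Normal
    have hIfix : ∀ {σ : MulAut E}, σ ∈ pairC E x g → ∀ {v : X}, v ∈ I0 → autFun σ v = v := fun hσ v hv =>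
      pairC_fix hH hE hZ hx hg hgR hσ hv.2
    set s : Set (MulAut E) := {σ | σ ∈ pairC E x g ∧ ∀ v ∈ D0, v⁻¹ * autFun σ v ∈ I0} with hs
    have hscl : ∀ σ ∈ closure s, ∃ j : ℕ, σ ^ p ^ j = 1 := by
      intro σ hσ
      obtain ⟨k, hk⟩ := exists_pow_fix hH.grp hD0E
        (C := fun i => match i with | 0 => ⊥ | 1 => I0 | _ => D0) (n := 2) rfl rfl
        (fun i hi => by interval_cases i; exacts [bot_le, inf_le_left])
        (fun i hi => by interval_cases i; exacts [bot_le, inf_le_left, le_rfl])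
        (fun c hc => hD0C.2 c hc.1)
        (fun c hc i hi v hv => by
          interval_cases i
          · exact Subgroup.mem_bot.2 (by rw [hIfix hc.1 hv, inv_mul_cancel])
          · exact hc.2 v hv) σ hσ
      obtain ⟨j, hj⟩ := hdetect _ hk
      exact ⟨k + j, by rw [pow_add, pow_mul, hj]⟩
    have hconj : ∀ c ∈ pairC E x g, ∀ k ∈ closure s, c * k * c⁻¹ ∈ closure s := by
      intro c hc k hk
      induction hk using Subgroup.closure_induction with
      | mem k hk =>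
        refine Subgroup.subset_closure ⟨mul_mem (mul_mem hc hk.1) (inv_mem hc), fun v hv => ?_⟩
        have hv' := hD0C.2 _ (inv_mem hc) v hv
        have h1 := hI0C.2 c hc _ (hk.2 _ hv')
        rw [af_mul c (inv_mem (hD0E hv')) (autFun_mem k (hD0E hv')), af_inv c (hD0E hv'),
          autFun_apply_inv] at h1
        rwa [autFun_mul, autFun_mul]
      | one => rw [mul_one, mul_inv_cancel]; exact one_mem _
      | mul k l _ _ ihk ihl =>
        rw [show c * (k * l) * c⁻¹ = (c * k * c⁻¹) * (c * l * c⁻¹) by group]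
        exact mul_mem ihk ihl
      | inv k _ ihk =>
        rw [show c * k⁻¹ * c⁻¹ = (c * k * c⁻¹)⁻¹ by group]
        exact inv_mem ihk
    have hinn : closure s ≤ Inn E := pgroup_le_inn hH hE hx hg hgR
      ((Subgroup.closure_le _).2 fun c hc => hC hc.1)
      (fun σ => by obtain ⟨j, hj⟩ := hscl σ σ.2; exact ⟨j, Subtype.ext (by simpa using hj)⟩)
      (hconj _ (Subgroup.subset_closure (Or.inl rfl))) (hconj _ (Subgroup.subset_closure (Or.inr rfl)))
    have htriv : ∀ σ ∈ s, ∀ v ∈ D0, autFun σ v = v := fun σ hσ v hv => by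
      obtain ⟨n, hn, hne⟩ := mem_inn_iff.1 (hinn (Subgroup.subset_closure hσ))
      rw [hne v (hD0E hv), cj_apply, (hcon v hv n hn).symm.eq, mul_inv_cancel_right]
    obtain ⟨k, hk⟩ := exists_pow_cA hH hE x
    have hk' : (g * cA E x * g⁻¹) ^ p ^ k = 1 := by rw [conj_pow, hk, mul_one, mul_inv_cancel]
    have hαC : cA E x ∈ pairC E x g := Subgroup.subset_closure (Or.inl rfl)
    have hβC : g * cA E x * g⁻¹ ∈ pairC E x g := Subgroup.subset_closure (Or.inr rfl)
    obtain ⟨θ, hθ, hθinv⟩ := exists_inversion_section (N := I0) inf_le_left hD0E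
      (fun u hu v hv => by rw [cm_eq_one_iff.2 (hab u hu v hv)]; exact one_mem _)
      (fun v hv => by rw [hexp v hv]; exact one_mem _) (by rw [ha, hb]; ring)
      (hI0C.2 _ hαC) (hI0C.2 _ hβC) (hD0C.2 _ hαC) (hD0C.2 _ hβC) hk hk'
      (fun σ hσ h => hscl σ (Subgroup.subset_closure ⟨hσ, h⟩)) (pair_not_pgroup hH hE hx hg hgR)
    have hcomm : ∀ σ ∈ pairC E x g, ∀ v ∈ D0, autFun σ (autFun θ v) = autFun θ (autFun σ v) := by
      intro σ hσ v hv
      have hτC : (θ * σ)⁻¹ * (σ * θ) ∈ pairC E x g := mul_mem (inv_mem (mul_mem hθ hσ)) (mul_mem hσ hθ)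
      have hσv : autFun σ v ∈ D0 := hD0C.2 σ hσ v hv
      have hmem : ∀ v ∈ D0, v⁻¹ * autFun ((θ * σ)⁻¹ * (σ * θ)) v ∈ I0 := by
        intro v hv
        have hv1 := hD0C.2 θ hθ v hv
        have hv2 := hD0C.2 σ hσ v hv
        have h1 := hI0C.2 σ hσ _ (hθinv v hv)
        rw [af_mul σ (hD0E hv) (hD0E hv1)] at h1
        have h2 := mul_mem (inv_mem (hθinv _ hv2)) h1
        rw [mul_inv_rev, mul_assoc, inv_mul_cancel_left] at h2
        have h3 := hI0C.2 _ (inv_mem (mul_mem hθ hσ)) _ h2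
        rw [af_mul _ (inv_mem (hD0E (hD0C.2 θ hθ _ hv2))) (hD0E (hD0C.2 σ hσ _ hv1)),
          af_inv _ (hD0E (hD0C.2 θ hθ _ hv2)), ← autFun_mul θ σ, autFun_inv_apply, ← autFun_mul σ θ] at h3
        rwa [autFun_mul (θ * σ)⁻¹ (σ * θ)]
      have h1 := congrArg (autFun (θ * σ)) (htriv _ ⟨hτC, hmem⟩ v hv)
      rwa [autFun_mul (θ * σ)⁻¹ (σ * θ), autFun_apply_inv, autFun_mul, autFun_mul] at h1
    let N : Subgroup X :=
      { carrier := {d | d ∈ D0 ∧ autFun θ d = d⁻¹}
        one_mem' := ⟨one_mem _, by rw [af_one', inv_one]⟩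
        mul_mem' := by
          rintro u v ⟨hu, hu'⟩ ⟨hv, hv'⟩
          exact ⟨mul_mem hu hv, by rw [af_mul θ (hD0E hu) (hD0E hv), hu', hv', ← mul_inv_rev,
            (hab u hu v hv).eq]⟩
        inv_mem' := by
          rintro u ⟨hu, hu'⟩
          exact ⟨inv_mem hu, by rw [af_inv θ (hD0E hu), hu']⟩ }
    have hNC : CI (pairC E x g) N := ⟨fun v hv => hD0E hv.1, fun σ hσ v hv =>
      ⟨hD0C.2 σ hσ v hv.1, by rw [← hcomm σ hσ v hv.1, hv.2, af_inv σ (hD0E hv.1)]⟩⟩
    haveI : N.Normal := normal_of_ci hH hE hZ hx hg hgR hNC fun v hv e he => by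
      rw [cm_eq_one_iff.2 (hcon v hv.1 e he)]; exact one_mem _
    obtain ⟨d, hd, hdI⟩ : ∃ d ∈ D0, d ∉ I0 := SetLike.not_le_iff_exists.1 fun hle => by
      have := Subgroup.card_le_of_le hle
      rw [ha, hb] at this
      exact absurd ((Nat.pow_le_pow_iff_right hpp).1 this) (by norm_num)
    set t := autFun θ d with ht
    have htD : t ∈ D0 := hD0C.2 θ hθ d hd
    have hθθ : autFun θ t = d := by
      rw [ht, ← autFun_mul]
      refine htriv _ ⟨mul_mem hθ hθ, fun v hv => ?_⟩ d hd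
      have hv1 := hD0C.2 θ hθ v hv
      rw [autFun_mul]
      have h3 := mul_mem (inv_mem (hI0n.conj_mem _ (hθinv v hv) v⁻¹)) (hθinv _ hv1)
      simpa [mul_assoc] using h3
    have hu : d * t⁻¹ ∈ N := ⟨mul_mem hd (inv_mem htD), by
      rw [af_mul θ (hD0E hd) (inv_mem (hD0E htD)), af_inv θ (hD0E htD), hθθ, ← ht, mul_inv_rev, inv_inv]⟩
    have hNne : N ≠ ⊥ := fun h0 => by
      rw [h0, Subgroup.mem_bot, mul_inv_eq_one] at hu
      have h1 := hθinv d hd
      rw [← ht, ← hu, ← pow_two] at h1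
      obtain ⟨m, hm⟩ := hp.out.odd_of_ne_two hH.odd
      refine hdI ?_
      have h2 := pow_mem h1 (m + 1)
      rwa [← pow_mul, show 2 * (m + 1) = p + 1 by omega, pow_succ, hexp d hd, one_mul] at h2
    refine inf_omegaX_ne_bot hH.grp hNne (le_bot_iff.1 fun v hv => Subgroup.mem_bot.2 ?_)
    have h1 : v = v⁻¹ := by
      have h2 := hv.1.2
      rwa [pairC_fix hH hE hZ hx hg hgR hθ hv.2] at h2
    obtain ⟨m, hm⟩ := hp.out.odd_of_ne_two hH.odd
    have h2 : v ^ 2 = 1 := by rw [pow_two]; nth_rewrite 2 [h1]; exact mul_inv_cancel v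
    have h3 := hexp v hv.1.1
    rwa [hm, pow_succ, pow_mul, h2, one_pow, one_mul] at h3
  -- nonabelian
  push Not at hab
  obtain ⟨a, ha, b, hb, hnc⟩ := hab
  haveI : (⊥ : Subgroup X).Normal := inferInstance
  set A := kerI D0 D0 ⊥ with hAd
  haveI hAn : A.Normal := kerI_normal
  have hbotC : CI (pairC E x g) (⊥ : Subgroup X) :=
    ⟨bot_le, fun s _ v hv => by rw [Subgroup.mem_bot.1 hv, af_one']; exact one_mem _⟩
  have hAC : CI (pairC E x g) A := hD0C.kerI hD0C hbotC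
  have hAmem : ∀ v, v ∈ A ↔ v ∈ D0 ∧ ∀ d ∈ D0, Commute v d := fun v => by
    refine ⟨fun h => ⟨h.1, fun d hd => cm_eq_one_iff.1 (Subgroup.mem_bot.1 (h.2 d hd))⟩,
      fun h => ⟨h.1, fun d hd => Subgroup.mem_bot.2 (cm_eq_one_iff.2 (h.2 d hd))⟩⟩
  have hAle : A ≤ D0 := fun v hv => hv.1
  have hAe : Elem p A :=
    ⟨fun u hu v hv => ((hAmem u).1 hu).2 v hv.1, fun v hv => hexp v hv.1⟩
  have hcA : ∀ u ∈ D0, ∀ v ∈ D0, cm u v ∈ A := fun u hu v hv =>
    (hAmem _).2 ⟨cm_mem hu v, hcls u hu v hv⟩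
  have haA : a ∉ A := fun h => hnc (((hAmem a).1 h).2 b hb)
  have hbA : b ∉ A ⊔ zpowers a := fun h => hnc (by
    have hle : A ⊔ zpowers a ≤ Subgroup.centralizer {a} := sup_le
      (fun v hv => Subgroup.mem_centralizer_singleton_iff.2 (((hAmem v).1 hv).2 a ha).eq)
      (Subgroup.zpowers_le.2 (Subgroup.mem_centralizer_singleton_iff.2 rfl))
    exact (Subgroup.mem_centralizer_singleton_iff.1 (hle h)).symm)
  set w := cm a b with hw
  have hwA : w ∈ A := hcA a ha b hb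
  have hw1 : w ≠ 1 := fun h => hnc (cm_eq_one_iff.1 h)
  have hwp : Nat.card (zpowers w) = p := by
    rw [Nat.card_zpowers, orderOf_eq_prime (hexp w hwA.1) hw1]
  obtain ⟨i, hi⟩ := IsPGroup.iff_card.1 (hH.grp.to_subgroup A)
  have hi2 : i ≤ 2 := by
    have h1 := elem_le hH.rank (hAe.sup_zpowers (x := a)
      (fun v hv => (((hAmem v).1 hv).2 a ha).symm) (hexp a ha))
    have h2 := (mul_card_le_sup hH.grp haA).trans h1
    rw [hi, ← pow_succ'] at h2
    have := (Nat.pow_le_pow_iff_right hpp).1 h2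
    omega
  have hi0 : 1 ≤ i := by
    by_contra h
    have h1 := Subgroup.card_le_of_le (Subgroup.zpowers_le.2 hwA)
    rw [hwp, hi, show i = 0 by omega, pow_zero] at h1
    omega
  have hB2 : A ⊔ zpowers a ⊔ zpowers b ≤ D0 :=
    sup_le (sup_le hAle (Subgroup.zpowers_le.2 ha)) (Subgroup.zpowers_le.2 hb)
  have hdec : D0 = A ⊔ zpowers a ⊔ zpowers b := by
    by_contra hne
    obtain ⟨c, hc, hcn⟩ := SetLike.not_le_iff_exists.1 fun hle => hne (le_antisymm hle hB2)
    rcases (show i = 1 ∨ i = 2 by omega) with h | h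
    · -- centre of order `p`
      have hAw : zpowers w = A := Subgroup.eq_of_le_of_card_ge (Subgroup.zpowers_le.2 hwA)
        (by rw [hwp, hi, h, pow_one])
      obtain ⟨s, hs⟩ := mem_zpowers_iff.1 (hAw.ge (hcA c hc a ha))
      obtain ⟨t, ht⟩ := mem_zpowers_iff.1 (hAw.ge (hcA c hc b hb))
      have hwc : ∀ d ∈ D0, Commute w d := hcls a ha b hb
      have hml : ∀ u ∈ D0, ∀ v ∈ D0, ∀ d ∈ D0, cm (u * v) d = cm u d * cm v d := fun u hu v hv d hd => by
        rw [cm_mul_left, mul_assoc v⁻¹, (hcls u hu d hd v hv).eq, inv_mul_cancel_left]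
      have hpl : ∀ u ∈ D0, ∀ d ∈ D0, ∀ n : ℤ, cm (u ^ n) d = cm u d ^ n := fun u hu d hd n =>
        cm_pow_left (hcls u hu d hd u hu) n
      set c' := c * a ^ (-t) * b ^ s with hc'
      have hc'D : c' ∈ D0 := mul_mem (mul_mem hc (zpow_mem ha _)) (zpow_mem hb _)
      have hca : Commute c' a := cm_eq_one_iff.1 (by
        rw [hc', hml _ (mul_mem hc (zpow_mem ha _)) _ (zpow_mem hb _) a ha, hml _ hc _ (zpow_mem ha _) a ha,
          hpl a ha a ha, hpl b hb a ha, cm_self, one_zpow, mul_one, cm_swap a b, ← hw, ← hs, inv_zpow,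
          mul_inv_cancel])
      have hcb : Commute c' b := cm_eq_one_iff.1 (by
        rw [hc', hml _ (mul_mem hc (zpow_mem ha _)) _ (zpow_mem hb _) b hb, hml _ hc _ (zpow_mem ha _) b hb,
          hpl a ha b hb, hpl b hb b hb, cm_self, one_zpow, mul_one, ← hw, ← ht, ← zpow_add,
          add_neg_cancel, zpow_zero])
      have hcB : c' ∉ A ⊔ zpowers a ⊔ zpowers b := fun h' => hcn (by
        have := mul_mem (mul_mem h' (inv_mem (Subgroup.mem_sup_right (zpow_mem (mem_zpowers b) s))))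
          (inv_mem (Subgroup.mem_sup_left (Subgroup.mem_sup_right (zpow_mem (mem_zpowers a) (-t)))) :
            (a ^ (-t))⁻¹ ∈ A ⊔ zpowers a ⊔ zpowers b)
        rwa [hc', mul_inv_cancel_right, mul_inv_cancel_right] at this)
      have hD4 : Nat.card D0 ≤ p ^ 4 := by
        refine (sect_card_le hH.rank hAle hcA fun v hv => (hexp v hv).symm ▸ one_mem _).trans ?_
        rw [hi, h, pow_one, ← pow_succ]
      have hall : A ⊔ zpowers a ⊔ zpowers b ⊔ zpowers c' = D0 := by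
        refine Subgroup.eq_of_le_of_card_ge (sup_le hB2 (Subgroup.zpowers_le.2 hc'D)) (hD4.trans ?_)
        refine le_trans ?_ (mul_card_le_sup hH.grp hcB)
        rw [show p ^ 4 = p * (p * (p * p)) by ring]
        refine Nat.mul_le_mul_left p (le_trans ?_ (mul_card_le_sup hH.grp hbA))
        refine Nat.mul_le_mul_left p (le_trans ?_ (mul_card_le_sup hH.grp haA))
        rw [hi, h, pow_one]
      have hle' : A ≤ A ⊔ zpowers a ⊔ zpowers b := le_sup_left.trans le_sup_left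
      refine hcB (hle' ((hAmem c').2 ⟨hc'D, fun d hd => ?_⟩))
      have hle : A ⊔ zpowers a ⊔ zpowers b ⊔ zpowers c' ≤ Subgroup.centralizer {c'} := by
        refine sup_le (sup_le (sup_le (fun v hv => ?_) ?_) ?_) ?_
        · exact Subgroup.mem_centralizer_singleton_iff.2 (((hAmem v).1 hv).2 c' hc'D).eq
        · exact Subgroup.zpowers_le.2 (Subgroup.mem_centralizer_singleton_iff.2 hca.symm.eq)
        · exact Subgroup.zpowers_le.2 (Subgroup.mem_centralizer_singleton_iff.2 hcb.symm.eq)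
        · exact Subgroup.zpowers_le.2 (Subgroup.mem_centralizer_singleton_iff.2 rfl)
      exact (Subgroup.mem_centralizer_singleton_iff.1 (hle (hall.ge hd))).symm
    · -- centre of order `p ^ 2`
      exact no_three hH.grp hH.odd hH.rank hAe (by rw [hi, h]) (hexp a ha) (hexp b hb) (hexp c hc)
        (fun u hu => (((hAmem u).1 hu).2 a ha).symm) (fun u hu => (((hAmem u).1 hu).2 b hb).symm)
        (fun u hu => (((hAmem u).1 hu).2 c hc).symm) (hcA a ha b hb) (hcA a ha c hc) (hcA b hb c hc)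
        haA hbA hcn
  -- the derived subgroup
  have hgen : ∀ v ∈ D0, v ∈ closure ((A : Set X) ∪ {a, b}) := by
    intro v hv
    rw [hdec] at hv
    have hle : A ⊔ zpowers a ⊔ zpowers b ≤ closure ((A : Set X) ∪ {a, b}) :=
      sup_le (sup_le (fun u hu => Subgroup.subset_closure (Or.inl hu))
        (Subgroup.zpowers_le.2 (Subgroup.subset_closure (by simp))))
        (Subgroup.zpowers_le.2 (Subgroup.subset_closure (by simp)))
    exact hle hv
  have hder : ∀ u ∈ D0, ∀ v ∈ D0, cm u v ∈ zpowers w := by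
    have hs : ∀ u ∈ ((A : Set X) ∪ {a, b}), u ∈ D0 := by
      rintro u (hu | rfl | rfl)
      exacts [hAle hu, ha, hb]
    intro u hu v hv
    refine cm_closure_mem (fun n hn d hd => ?_) ?_ u (hgen u hu) v (hgen v hv)
    · obtain ⟨k, rfl⟩ := mem_zpowers_iff.1 hn
      exact (hcls a ha b hb d (hs d hd)).zpow_left k
    · rintro u (hu | rfl | rfl) v (hv | rfl | rfl)
      all_goals first
        | (rw [cm_self]; exact one_mem _)
        | (rw [cm_eq_one_iff.2 (((hAmem _).1 hu).2 _ (hAle hv))]; exact one_mem _)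
        | (rw [cm_eq_one_iff.2 (((hAmem _).1 hu).2 _ ha)]; exact one_mem _)
        | (rw [cm_eq_one_iff.2 (((hAmem _).1 hu).2 _ hb)]; exact one_mem _)
        | (rw [cm_eq_one_iff.2 (((hAmem _).1 hv).2 _ ha).symm]; exact one_mem _)
        | (rw [cm_eq_one_iff.2 (((hAmem _).1 hv).2 _ hb).symm]; exact one_mem _)
        | exact mem_zpowers _
        | (rw [cm_swap]; exact inv_mem (mem_zpowers _))
  set I := zpowers w with hI
  haveI hIn : I.Normal := by
    refine ⟨fun v hv y => ?_⟩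
    obtain ⟨k, rfl⟩ := mem_zpowers_iff.1 hv
    rw [← conj_zpow]
    refine zpow_mem ?_ k
    rw [hw, show y * cm a b * y⁻¹ = cm (y * a * y⁻¹) (y * b * y⁻¹) by rw [cm_def, cm_def]; group]
    exact hder _ (hD0n.conj_mem a ha y) _ (hD0n.conj_mem b hb y)
  have hIX : I ≤ omegaX p X := by
    have h1 : I ⊓ omegaX p X ≠ ⊥ := inf_omegaX_ne_bot hH.grp fun h => hw1 (Subgroup.zpowers_eq_bot.1 h)
    obtain ⟨m, hm⟩ := IsPGroup.iff_card.1 (hH.grp.to_subgroup (I ⊓ omegaX p X))
    have h2 : I ⊓ omegaX p X = I := Subgroup.eq_of_le_of_card_ge inf_le_left (by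
      have : m ≠ 0 := fun h => h1 (Subgroup.card_eq_one.1 (by rw [hm, h, pow_zero]))
      rw [hwp, hm]
      exact le_self_pow₀ hpp.le this)
    exact h2 ▸ inf_le_right
  have hIA : I ≤ A := Subgroup.zpowers_le.2 hwA
  have hIC : CI (pairC E x g) I :=
    ⟨hIA.trans hAC.1, fun σ hσ v hv => by rw [pairC_fix hH hE hZ hx hg hgR hσ (hIX hv)]; exact hv⟩
  have hAcard : Nat.card A * p ^ 2 = Nat.card D0 := by
    have hna : a ∈ normalizer (A : Set X) :=
      mem_normalizer_of_forall fun v hv => hAn.conj_mem v hv a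
    have hnb : b ∈ normalizer ((A ⊔ zpowers a : Subgroup X) : Set X) :=
      mem_normalizer_of_forall fun v hv => by
        have hvD : v ∈ D0 := sup_le hAle (Subgroup.zpowers_le.2 ha) hv
        have h1 := mul_mem hv (Subgroup.mem_sup_left (hcA v hvD _ (inv_mem hb)) : cm v b⁻¹ ∈ A ⊔ zpowers a)
        rwa [cm_def, inv_inv, show v * (v⁻¹ * b * v * b⁻¹) = b * v * b⁻¹ by group] at h1
    rw [hdec, card_adjoin (hexp b hb) hnb hbA, card_adjoin (hexp a ha) hna haA]
    ring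
  obtain h | h := (show i = 1 ∨ i = 2 by omega)
  · exact ⟨D0, I, hD0C, hIC, hD0n, hIA.trans hAle, hwp, hIX, by rw [← hAcard, hi, h]; ring, hexp, hDet,
      a, ha, b, hD0E hb, hnc⟩
  have hAcd : Nat.card A = p ^ 2 := by rw [hi, h]
  have hD4 : Nat.card D0 = p ^ 4 := by rw [← hAcard, hAcd]; ring
  obtain ⟨a0, ha0, ha0I⟩ : ∃ a0 ∈ A, a0 ∉ I := SetLike.not_le_iff_exists.1 fun hle => by
    have := Subgroup.card_le_of_le hle
    rw [hAcd, hwp, pow_two] at this
    exact absurd this (not_le.2 (lt_mul_of_one_lt_left hp.out.pos hpp))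
  have hAgen : ∀ {v : X}, v ∈ A → v ∈ I ⊔ zpowers a0 := fun {v} hv => by
    refine (Subgroup.eq_of_le_of_card_ge (sup_le hIA (Subgroup.zpowers_le.2 ha0)) ?_).ge hv
    rw [hAcd, pow_two]
    refine le_trans ?_ (mul_card_le_sup hH.grp ha0I)
    rw [hwp]
  have hIcen : ∀ v ∈ I, ∀ y : X, Commute v y := fun v hv y => (hIX hv).2.2 y (Subgroup.mem_top y)
  -- commutators with the centre
  have hAI : ∀ v ∈ A, ∀ y : X, cm v y ∈ I := by
    obtain ⟨d, hd, hdI, hdc⟩ := exists_step hH.grp (N := I) (H := A) fun hle => ha0I (hle ha0)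
    have hle : I ≤ kerI A ⊤ I := fun v hv => ⟨hIA hv, fun y _ => by
      rw [cm_eq_one_iff.2 (hIcen v hv y)]; exact one_mem _⟩
    have heq : kerI A ⊤ I = A := Subgroup.eq_of_le_of_card_ge (fun v hv => hv.1) (by
      have h1 := Subgroup.card_le_of_le (sup_le hle (Subgroup.zpowers_le.2 (show d ∈ kerI A ⊤ I from
        ⟨hd, fun y _ => hdc y⟩)))
      refine le_trans ?_ h1
      rw [hAcd, pow_two]
      refine le_trans ?_ (mul_card_le_sup hH.grp hdI)
      rw [hwp])
    exact fun v hv y => (heq.ge hv).2 y (Subgroup.mem_top y)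
  have hbetween : ∀ R : Subgroup X, CI (pairC E x g) R → A ≤ R → R ≤ D0 → R = A ∨ R = D0 := by
    intro R hRC hAR hRD
    by_contra hcon
    push Not at hcon
    have h1 := mul_card_le (hH.grp.to_subgroup R) (lt_of_le_of_ne hAR (Ne.symm hcon.1))
    have h2 := mul_card_le (hH.grp.to_subgroup D0) (lt_of_le_of_ne hRD hcon.2)
    rw [hAcd, ← pow_succ'] at h1
    obtain ⟨r, hr⟩ := IsPGroup.iff_card.1 (hH.grp.to_subgroup R)
    rw [hr] at h1 h2
    rw [hD4, ← pow_succ'] at h2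
    have e1 := (Nat.pow_le_pow_iff_right hpp).1 h1
    have e2 := (Nat.pow_le_pow_iff_right hpp).1 h2
    obtain rfl : r = 3 := by omega
    have hdetR := det_sub hH hE hZ hx hg hgR hRC hD0C hRD
      (relIndex_le_of_card hRD (by rw [hD4, hr]; ring_nf; rfl)) hDet
    exact not_det hH hE hZ hx hg hgR hIX hAC hRC hIC hIA hAR
      (relIndex_le_of_card hIA (by rw [hwp, hAcd, pow_two]))
      (relIndex_le_of_card hAR (by rw [hAcd, hr]; ring_nf; rfl)) hdetR
  have hDA : ∀ d ∈ D0, ∀ e ∈ E, cm d e ∈ A := by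
    obtain ⟨d, hd, hdA, hdc⟩ := exists_step hH.grp (N := A) (H := D0) fun hle => haA (hle ha)
    have hc : CI (pairC E x g) (kerI D0 E A) := hD0C.kerI (ci_self hH hE hZ hx hg hgR) hAC
    have hle : A ≤ kerI D0 E A := fun v hv => ⟨hAle hv, fun y _ => cm_mem hv y⟩
    obtain h1 | h1 := hbetween _ hc hle (fun v hv => hv.1)
    · exact absurd (h1.le ⟨hd, fun e _ => hdc e⟩) hdA
    exact fun v hv e he => (h1.ge hv).2 e he
  -- a line modulo the centre
  have hkvec : ∀ e ∈ E, ∃ d ∈ D0, d ∉ A ∧ cm d e ∈ I := by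
    intro e he
    have hba : ∀ k : ℤ, b * a ^ k ∉ A := fun k hk => hbA (by
      have h1 := mul_mem (Subgroup.mem_sup_left hk : b * a ^ k ∈ A ⊔ zpowers a)
        (inv_mem (Subgroup.mem_sup_right (zpow_mem (mem_zpowers a) k)))
      rwa [mul_inv_cancel_right] at h1)
    by_cases hae : cm a e ∈ I
    · exact ⟨a, ha, haA, hae⟩
    have hgenA : I ⊔ zpowers (cm a e) = A := Subgroup.eq_of_le_of_card_ge
      (sup_le hIA (Subgroup.zpowers_le.2 (hDA a ha e he))) (by
        rw [hAcd, pow_two]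
        refine le_trans ?_ (mul_card_le_sup hH.grp hae)
        rw [hwp])
    obtain ⟨n, hn, m, hm, hnm⟩ := Subgroup.mem_sup_of_normal_left.1 (hgenA.ge (hDA b hb e he))
    obtain ⟨k, rfl⟩ := mem_zpowers_iff.1 hm
    refine ⟨b * a ^ (-k), mul_mem hb (zpow_mem ha _), hba _, ?_⟩
    have hc1 : ∀ u ∈ A, ∀ d ∈ D0, Commute u d := fun u hu => ((hAmem u).1 hu).2
    rw [cm_mul_left, mul_assoc (a ^ (-k))⁻¹, (hc1 _ (hDA b hb e he) _ (zpow_mem ha _)).eq, inv_mul_cancel_left,
      cm_pow_left (hc1 _ (hDA a ha e he) a ha), ← hnm, mul_assoc, ← zpow_add, add_neg_cancel, zpow_zero,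
      mul_one]
    exact hn
  set J := kerI D0 E I with hJ
  have hJC : CI (pairC E x g) J := hD0C.kerI (ci_self hH hE hZ hx hg hgR) hIC
  have hAJ : A ≤ J := fun v hv => ⟨hAle hv, fun y _ => hAI v hv y⟩
  obtain hJA | hJD := hbetween J hJC hAJ fun v hv => hv.1
  · -- impossible
    exfalso
    set P := kerI E A ⊥ with hP
    have hPC : CI (pairC E x g) P := (ci_self hH hE hZ hx hg hgR).kerI hAC hbotC
    have hPcomm : ∀ e ∈ P, ∀ v ∈ A, Commute e v := fun e he v hv =>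
      cm_eq_one_iff.1 (Subgroup.mem_bot.1 (he.2 v hv))
    have hDP : D0 ≤ P := fun d hd => ⟨hD0E hd, fun v hv =>
      Subgroup.mem_bot.2 (cm_eq_one_iff.2 (((hAmem v).1 hv).2 d hd).symm)⟩
    have hkill : ∀ d ∈ D0, d ∉ A → ∀ U : Subgroup X, (∀ e ∈ E, e ∈ U) → (∀ e ∈ U, cm d e ∈ I) → False :=
      fun d hd hdA U hU hdU => hdA (hJA.le ⟨hd, fun e he => hdU e (hU e he)⟩)
    have hJP : kerI D0 P I = A := by
      refine (hbetween _ (hD0C.kerI hPC hIC) (fun v hv => ⟨hAle hv, fun y _ => hAI v hv y⟩)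
        fun v hv => hv.1).resolve_right fun hall => ?_
      by_cases hPE : E ≤ P
      · exact hkill a ha haA P hPE fun e he => (hall.ge ha).2 e he
      obtain ⟨e0, he0, he0P⟩ := SetLike.not_le_iff_exists.1 hPE
      obtain ⟨d, hd, hdA, hde⟩ := hkvec e0 he0
      refine hkill d hd hdA (cmInto d I) (fun e he => ?_) fun e he => he
      have hc : cm e0 a0 ∉ (⊥ : Subgroup X) := fun hbot => he0P ⟨he0, fun v hv => by
        obtain ⟨u, hu, m, hm, rfl⟩ := Subgroup.mem_sup_of_normal_left.1 (hAgen hv)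
        obtain ⟨k, rfl⟩ := mem_zpowers_iff.1 hm
        refine Subgroup.mem_bot.2 (cm_eq_one_iff.2 ?_)
        exact (hIcen u hu e0).symm.mul_right ((cm_eq_one_iff.1 (Subgroup.mem_bot.1 hbot)).zpow_right k)⟩
      rw [Subgroup.mem_bot] at hc
      have hin : ∀ y : X, cm y a0 ∈ I := fun y => by rw [cm_swap]; exact inv_mem (hAI a0 ha0 y)
      have hcI : zpowers (cm e0 a0) = I := Subgroup.eq_of_le_of_card_ge (Subgroup.zpowers_le.2 (hin _)) (by
        rw [hwp, Nat.card_zpowers, orderOf_eq_prime (hexp _ (hAle (hIA (hin _)))) hc])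
      obtain ⟨k, hk⟩ := mem_zpowers_iff.1 (hcI.ge (hin e))
      have hq : e * e0 ^ (-k) ∈ P := by
        refine ⟨mul_mem he (zpow_mem he0 _), fun v hv => ?_⟩
        obtain ⟨u, hu, m, hm, rfl⟩ := Subgroup.mem_sup_of_normal_left.1 (hAgen hv)
        obtain ⟨j, rfl⟩ := mem_zpowers_iff.1 hm
        refine Subgroup.mem_bot.2 (cm_eq_one_iff.2 ?_)
        refine (hIcen u hu _).symm.mul_right (Commute.zpow_right ?_ j)
        refine cm_eq_one_iff.1 ?_
        rw [cm_mul_left, mul_assoc (e0 ^ (-k))⁻¹, (hIcen _ (hin e) _).eq, inv_mul_cancel_left,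
          cm_pow_left (hIcen _ (hin e0) _), ← hk, ← zpow_add, add_neg_cancel, zpow_zero]
      have h1 : e * e0 ^ (-k) ∈ cmInto d I := (hall.ge hd).2 _ hq
      have h2 : e0 ∈ cmInto d I := hde
      simpa using mul_mem h1 (zpow_mem h2 k)
    set Q := kerI P D0 I with hQ
    set N := kerI P D0 ⊥ with hN
    have hpair : ∀ e1 ∈ P, ¬ P ≤ Q ⊔ zpowers e1 := by
      intro e1 he1 hle
      obtain ⟨d, hd, hdA, hde⟩ := hkvec e1 he1.1
      refine hdA (hJP.le ⟨hd, fun e he => ?_⟩)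
      have hle' : Q ⊔ zpowers e1 ≤ cmInto d I := sup_le (fun q hq => by
        show cm d q ∈ I
        rw [cm_swap]; exact inv_mem (hq.2 d hd)) (Subgroup.zpowers_le.2 hde)
      exact hle' (hle he)
    obtain ⟨e1, he1, he1Q⟩ : ∃ e1 ∈ P, e1 ∉ Q := SetLike.not_le_iff_exists.1 fun hle =>
      hpair 1 (one_mem _) (hle.trans le_sup_left)
    obtain ⟨e2, he2, he2Q⟩ := SetLike.not_le_iff_exists.1 (hpair e1 he1)
    have haQ : a ∈ Q := ⟨hDP ha, fun d hd => hder a ha d hd⟩
    have hbQ : b ∈ Q := ⟨hDP hb, fun d hd => hder b hb d hd⟩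
    have hNQ : N ≤ Q := fun v hv => ⟨hv.1, fun d hd => by
      rw [Subgroup.mem_bot.1 (hv.2 d hd)]; exact one_mem _⟩
    have haN : a ∉ N := fun h' => hnc (cm_eq_one_iff.1 (Subgroup.mem_bot.1 (h'.2 b hb)))
    have hbN : b ∉ N ⊔ zpowers a := fun h' => hnc (by
      have hle : N ⊔ zpowers a ≤ Subgroup.centralizer {a} := sup_le
        (fun v hv => Subgroup.mem_centralizer_singleton_iff.2
          (cm_eq_one_iff.1 (Subgroup.mem_bot.1 (hv.2 a ha))).eq)
        (Subgroup.zpowers_le.2 (Subgroup.mem_centralizer_singleton_iff.2 rfl))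
      exact (Subgroup.mem_centralizer_singleton_iff.1 (hle h')).symm)
    have hb1 : p * (p * (p * (p * Nat.card N))) ≤ Nat.card P := by
      have hQle : p * (p * Nat.card N) ≤ Nat.card Q :=
        (Nat.mul_le_mul_left p (mul_card_le_sup hH.grp haN)).trans ((mul_card_le_sup hH.grp hbN).trans
          (Subgroup.card_le_of_le (sup_le (sup_le hNQ (Subgroup.zpowers_le.2 haQ))
            (Subgroup.zpowers_le.2 hbQ))))
      refine (Nat.mul_le_mul_left p (Nat.mul_le_mul_left p hQle)).trans ?_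
      refine (Nat.mul_le_mul_left p (mul_card_le_sup hH.grp he1Q)).trans ((mul_card_le_sup hH.grp he2Q).trans ?_)
      exact Subgroup.card_le_of_le (sup_le (sup_le (fun v hv => hv.1) (Subgroup.zpowers_le.2 he1))
        (Subgroup.zpowers_le.2 he2))
    -- the action of `P` is elementary
    have hmv : ∀ e ∈ P, ∀ d : X, d ∈ D0 → d * e = e * d * cm d e ∧ cm d e ∈ A := fun e he d hd =>
      ⟨mul_eq_mul_cm d e, hDA d hd e he.1⟩
    have hcP : ∀ e ∈ P, ∀ f ∈ P, cm e f ∈ N := by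
      intro e he f hf
      refine ⟨mul_mem (mul_mem (mul_mem (inv_mem he) (inv_mem hf)) he) hf, fun d hd =>
        Subgroup.mem_bot.2 (cm_eq_one_iff.2 ?_)⟩
      obtain ⟨h1, h1A⟩ := hmv e he d hd
      obtain ⟨h2, h2A⟩ := hmv f hf d hd
      have hef : d * (e * f) = e * f * d * (cm d f * cm d e) := by
        rw [← mul_assoc, h1, mul_assoc (e * d), (hPcomm f hf _ h1A).symm.eq, ← mul_assoc, mul_assoc e d, h2]
        group
      have hfe : d * (f * e) = f * e * d * (cm d f * cm d e) := by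
        rw [(((hAmem _).1 h2A).2 _ h1A.1).eq, ← mul_assoc, h2, mul_assoc (f * d),
          (hPcomm e he _ h2A).symm.eq, ← mul_assoc, mul_assoc f d, h1]
        group
      set m := cm d f * cm d e
      have hgm : Commute (cm e f) m := by
        have hg1 : cm e f ∈ P := mul_mem (mul_mem (mul_mem (inv_mem he) (inv_mem hf)) he) hf
        exact (hPcomm _ hg1 _ h2A).mul_right (hPcomm _ hg1 _ h1A)
      have he' : e * f = f * e * cm e f := mul_eq_mul_cm e f
      rw [he', ← mul_assoc, hfe, mul_assoc (f * e) (cm e f) d, mul_assoc (f * e * d) m, ← hgm.eq,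
        ← mul_assoc (f * e * d), mul_left_inj, mul_assoc (f * e) d, mul_right_inj] at hef
      exact hef.symm
    have hpP : ∀ e ∈ P, e ^ p ∈ N := by
      intro e he
      refine ⟨pow_mem he p, fun d hd => Subgroup.mem_bot.2 (cm_eq_one_iff.2 ?_)⟩
      obtain ⟨h1, h1A⟩ := hmv e he d hd
      have hn : ∀ n : ℕ, d * e ^ n = e ^ n * d * cm d e ^ n := by
        intro n
        induction n with
        | zero => simp
        | succ n ih =>
          rw [pow_succ, ← mul_assoc, ih, mul_assoc (e ^ n * d), ((hPcomm e he _ h1A).symm.pow_left n).eq,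
            ← mul_assoc, mul_assoc (e ^ n) d, h1, pow_succ' (cm d e)]
          group
      have h2 := hn p
      rw [hexp _ h1A.1, mul_one] at h2
      exact h2.symm
    have h5 := sect_card_le hH.rank (N := N) (H := P) (fun v hv => hv.1) hcP hpP
    have h6 : p ^ 4 * Nat.card N ≤ p ^ 3 * Nat.card N :=
      (le_of_eq (by ring)).trans (hb1.trans h5)
    have := (Nat.pow_le_pow_iff_right hpp).1 (Nat.le_of_mul_le_mul_right h6 Nat.card_pos)
    omega
  -- commutators with `E` lie in the line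
  have hDI : ∀ d ∈ D0, ∀ e ∈ E, cm d e ∈ I := fun d hd e he => (hJD.ge hd).2 e he
  have hIinv : ∀ {σ : MulAut E}, σ ∈ pairC E x g → ∀ {v : X}, v ∈ I → autFun σ v = v := fun hσ v hv =>
    pairC_fix hH hE hZ hx hg hgR hσ (hIX hv)
  have hAstep : ∀ σ ∈ pairC E x g, ∀ v ∈ A, v⁻¹ * autFun σ v ∈ I :=
    step_C hH hE hZ hx hg hgR hIC hAC hIA (relIndex_le_of_card hIA (by rw [hwp, hAcd, pow_two]))
  -- stabilisers
  set s : Set (MulAut E) := {σ | σ ∈ pairC E x g ∧ ∀ v ∈ D0, v⁻¹ * autFun σ v ∈ A} with hs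
  have hscl : ∀ σ ∈ closure s, ∃ j : ℕ, σ ^ p ^ j = 1 := by
    intro σ hσ
    obtain ⟨k, hk⟩ := exists_pow_fix hH.grp hD0E
      (C := fun i => match i with | 0 => ⊥ | 1 => I | 2 => A | _ => D0) (n := 3) rfl rfl
      (fun i hi => by interval_cases i; exacts [bot_le, hIA, hAle])
      (fun i hi => by interval_cases i; exacts [bot_le, hIA.trans hAle, hAle, le_rfl])
      (fun c hc => hD0C.2 c hc.1)
      (fun c hc i hi v hv => by
        interval_cases i
        · exact Subgroup.mem_bot.2 (by rw [hIinv hc.1 hv, inv_mul_cancel])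
        · exact hAstep c hc.1 v hv
        · exact hc.2 v hv) σ hσ
    obtain ⟨j, hj⟩ := hdetect _ hk
    exact ⟨k + j, by rw [pow_add, pow_mul, hj]⟩
  have hsI : ∀ σ ∈ s, ∀ v ∈ D0, v⁻¹ * autFun σ v ∈ I := by
    have hK : IsPGroup p (closure s) := fun σ => by
      obtain ⟨j, hj⟩ := hscl σ σ.2
      exact ⟨j, Subtype.ext (by simpa using hj)⟩
    have hconj : ∀ c ∈ pairC E x g, ∀ k ∈ closure s, c * k * c⁻¹ ∈ closure s := by
      intro c hc k hk
      induction hk using Subgroup.closure_induction with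
      | mem k hk =>
        refine Subgroup.subset_closure ⟨mul_mem (mul_mem hc hk.1) (inv_mem hc), fun v hv => ?_⟩
        have hv' := hD0C.2 _ (inv_mem hc) v hv
        have h1 := hAC.2 c hc _ (hk.2 _ hv')
        rw [af_mul c (inv_mem (hD0E hv')) (autFun_mem k (hD0E hv')), af_inv c (hD0E hv'),
          autFun_apply_inv] at h1
        rwa [autFun_mul, autFun_mul]
      | one => rw [mul_one, mul_inv_cancel]; exact one_mem _
      | mul k l _ _ ihk ihl =>
        rw [show c * (k * l) * c⁻¹ = (c * k * c⁻¹) * (c * l * c⁻¹) by group]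
        exact mul_mem ihk ihl
      | inv k _ ihk =>
        rw [show c * k⁻¹ * c⁻¹ = (c * k * c⁻¹)⁻¹ by group]
        exact inv_mem ihk
    have hinn : closure s ≤ Inn E := pgroup_le_inn hH hE hx hg hgR
      ((Subgroup.closure_le _).2 fun c hc => hC hc.1) hK
      (hconj _ (Subgroup.subset_closure (Or.inl rfl))) (hconj _ (Subgroup.subset_closure (Or.inr rfl)))
    intro σ hσ v hv
    obtain ⟨n, hn, hne⟩ := mem_inn_iff.1 (hinn (Subgroup.subset_closure hσ))
    rw [hne v (hD0E hv), cj_apply]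
    have h1 := hDI v hv n⁻¹ (inv_mem hn)
    rwa [cm_def, inv_inv, mul_assoc (v⁻¹ * n), mul_assoc v⁻¹, ← mul_assoc n] at h1
  -- the inversion
  obtain ⟨k, hk⟩ := exists_pow_cA hH hE x
  have hk' : (g * cA E x * g⁻¹) ^ p ^ k = 1 := by rw [conj_pow, hk, mul_one, mul_inv_cancel]
  have hαC : cA E x ∈ pairC E x g := Subgroup.subset_closure (Or.inl rfl)
  have hβC : g * cA E x * g⁻¹ ∈ pairC E x g := Subgroup.subset_closure (Or.inr rfl)
  obtain ⟨θ, hθ, hθinv⟩ := exists_inversion_section hAle hD0E hcA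
    (fun v hv => by rw [hexp v hv]; exact one_mem _) (by rw [hD4, hAcd]; ring)
    (hAC.2 _ hαC) (hAC.2 _ hβC) (hD0C.2 _ hαC) (hD0C.2 _ hβC) hk hk'
    (fun σ hσ h => hscl σ (Subgroup.subset_closure ⟨hσ, h⟩)) (pair_not_pgroup hH hE hx hg hgR)
  -- `θ` commutes modulo `I`
  have hθc : ∀ σ ∈ pairC E x g, ∀ v ∈ D0, ∃ i ∈ I, autFun σ (autFun θ v) = autFun θ (autFun σ v) * i := by
    intro σ hσ v hv
    set τ := (θ * σ)⁻¹ * (σ * θ) with hτ
    have hτC : τ ∈ pairC E x g := mul_mem (inv_mem (mul_mem hθ hσ)) (mul_mem hσ hθ)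
    have hτs : ∀ v ∈ D0, v⁻¹ * autFun τ v ∈ A := by
      intro v hv
      obtain ⟨a1, ha1, he1⟩ : ∃ a1 ∈ A, autFun θ v = v⁻¹ * a1 :=
        ⟨v * autFun θ v, hθinv v hv, (inv_mul_cancel_left _ _).symm⟩
      have hσvD : autFun σ v ∈ D0 := hD0C.2 σ hσ v hv
      obtain ⟨a2, ha2, he2⟩ : ∃ a2 ∈ A, autFun θ (autFun σ v) = (autFun σ v)⁻¹ * a2 :=
        ⟨_, hθinv _ hσvD, (inv_mul_cancel_left _ _).symm⟩
      have ha3 : a2⁻¹ * autFun σ a1 ∈ A := mul_mem (inv_mem ha2) (hAC.2 σ hσ a1 ha1)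
      have he3 : autFun σ (autFun θ v) = autFun θ (autFun σ v) * (a2⁻¹ * autFun σ a1) := by
        rw [he1, af_mul σ (inv_mem (hD0E hv)) (hAC.1 ha1), af_inv σ (hD0E hv), he2]
        group
      rw [hτ, autFun_mul, autFun_mul, he3, ← autFun_mul θ σ,
        af_mul _ (autFun_mem _ (hD0E hv)) (hAC.1 ha3), autFun_inv_apply, inv_mul_cancel_left]
      exact hAC.2 _ (inv_mem (mul_mem hθ hσ)) _ ha3
    have h1 := hsI τ ⟨hτC, hτs⟩ v hv
    refine ⟨_, h1, ?_⟩
    have h2 : autFun (θ * σ) (v * (v⁻¹ * autFun τ v)) = autFun (σ * θ) v := by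
      rw [mul_inv_cancel_left, hτ, autFun_mul (θ * σ)⁻¹ (σ * θ), autFun_apply_inv]
    rw [af_mul _ (hD0E hv) (hIC.1 h1), hIinv (mul_mem hθ hσ) h1, autFun_mul θ σ, autFun_mul σ θ] at h2
    exact h2.symm
  let H : Subgroup X :=
    { carrier := {d | d ∈ D0 ∧ d * autFun θ d ∈ I}
      one_mem' := ⟨one_mem _, by rw [af_one', mul_one]; exact one_mem _⟩
      mul_mem' := by
        rintro u v ⟨hu, hu'⟩ ⟨hv, hv'⟩
        refine ⟨mul_mem hu hv, ?_⟩
        have hθu : autFun θ u ∈ D0 := hD0C.2 θ hθ u hu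
        rw [af_mul θ (hD0E hu) (hD0E hv), mul_assoc u, ← mul_assoc v,
          mul_eq_mul_cm v (autFun θ u),
          show u * (autFun θ u * v * cm v (autFun θ u) * autFun θ v) =
            u * autFun θ u * v * (cm v (autFun θ u) * autFun θ v) by group,
          (hIcen _ (hder v hv _ hθu) _).eq, ← mul_assoc, mul_assoc (u * autFun θ u) v]
        exact mul_mem (mul_mem hu' hv') (hder v hv _ hθu)
      inv_mem' := by
        rintro u ⟨hu, hu'⟩
        refine ⟨inv_mem hu, ?_⟩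
        rw [af_inv θ (hD0E hu), ← mul_inv_rev]
        refine inv_mem ?_
        have h1 := hIn.conj_mem _ hu' u⁻¹
        rwa [inv_inv, inv_mul_cancel_left] at h1 }
  have hHC : CI (pairC E x g) H := by
    refine ⟨fun v hv => hD0E hv.1, fun σ hσ v hv => ⟨hD0C.2 σ hσ v hv.1, ?_⟩⟩
    obtain ⟨i, hi, hie⟩ := hθc σ hσ v hv.1
    have h1 := mul_mem (hIC.2 σ hσ _ hv.2) (inv_mem hi)
    rwa [af_mul σ (hD0E hv.1) (autFun_mem θ (hD0E hv.1)), hie, ← mul_assoc, mul_inv_cancel_right] at h1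
  have hIH : I ≤ H := fun v hv => ⟨hAle (hIA hv), by rw [hIinv hθ hv]; exact mul_mem hv hv⟩
  have hHn : H.Normal := normal_of_ci hH hE hZ hx hg hgR hHC fun v hv e he => hIH (hDI v hv.1 e he)
  obtain ⟨m, hm⟩ := hp.out.odd_of_ne_two hH.odd
  have hsq : ∀ v ∈ D0, v = (v ^ 2) ^ (m + 1) := fun v hv => by
    rw [← pow_mul, show 2 * (m + 1) = p + 1 by omega, pow_succ, hexp v hv, one_mul]
  have hHA : H ⊓ A ≤ I := by
    rintro v ⟨hvH, hvA⟩
    have h1 := hAstep θ hθ v hvA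
    have h2 : v ^ 2 ∈ I := by
      have h3 := mul_mem hvH.2 (inv_mem h1)
      rwa [mul_inv_rev, inv_inv, mul_assoc v, mul_inv_cancel_left, ← pow_two] at h3
    rw [hsq v hvA.1]
    exact pow_mem h2 _
  have hHsup : ∀ v ∈ D0, v ∈ H ⊔ A := by
    intro v hv
    set t := autFun θ v with ht
    have htD : t ∈ D0 := hD0C.2 θ hθ v hv
    have hu : v * t⁻¹ ∈ H := by
      refine ⟨mul_mem hv (inv_mem htD), ?_⟩
      have hsq' : ∀ v ∈ D0, v⁻¹ * autFun (θ * θ) v ∈ A := by
        intro v hv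
        have h1 := hθinv v hv
        have h2 := hθinv _ (hD0C.2 θ hθ v hv)
        rw [autFun_mul]
        have h1' := hAn.conj_mem _ h1 v⁻¹
        have h3 := mul_mem (inv_mem h1') h2
        simpa [mul_assoc] using h3
      have h4 := hsI _ ⟨mul_mem hθ hθ, hsq'⟩ v hv
      rw [autFun_mul, ← ht] at h4
      rw [af_mul θ (hD0E hv) (inv_mem (hD0E htD)), af_inv θ (hD0E htD), ← ht, ← mul_assoc,
        inv_mul_cancel_right]
      have h5 := hIn.conj_mem _ (inv_mem h4) v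
      simpa [mul_assoc] using h5
    have hmod : v ^ 2 ∈ H ⊔ A := by
      have h1 := hθinv v hv
      rw [← ht] at h1
      have h2 : (v * t⁻¹) * (v * t) ∈ H ⊔ A :=
        mul_mem (Subgroup.mem_sup_left hu) (Subgroup.mem_sup_right h1)
      rwa [mul_assoc v t⁻¹, (((hAmem _).1 h1).2 t⁻¹ (inv_mem htD)).symm.eq, mul_inv_cancel_right,
        ← pow_two] at h2
    rw [hsq v hv]
    exact pow_mem hmod _
  have hHD : H ≤ D0 := fun v hv => hv.1
  have hsup : H ⊔ A = D0 := le_antisymm (sup_le hHD hAle) hHsup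
  have hrel : I.relIndex H = p ^ 2 := by
    have h1 : A.relIndex (H ⊔ A) = A.relIndex H := Subgroup.relIndex_sup_right H A
    rw [hsup, ← Subgroup.inf_relIndex_left H A, show H ⊓ A = I from le_antisymm hHA (le_inf hIH hIA)] at h1
    have h2 := Subgroup.relIndex_mul_relIndex (⊥ : Subgroup X) A D0 bot_le hAle
    rw [Subgroup.relIndex_bot_left, Subgroup.relIndex_bot_left, hAcd, hD4, h1,
      show p ^ 4 = p ^ 2 * p ^ 2 by ring] at h2
    exact Nat.eq_of_mul_eq_mul_left (pow_pos hp.out.pos 2) h2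
  have hH3 : Nat.card H = p ^ 3 := by
    have h1 := Subgroup.relIndex_mul_relIndex (⊥ : Subgroup X) I H bot_le hIH
    rw [Subgroup.relIndex_bot_left, Subgroup.relIndex_bot_left, hwp, hrel] at h1
    rw [← h1]; ring
  refine ⟨H, I, hHC, hIC, hHn, hIH, hwp, hIX, hH3, fun v hv => hexp v hv.1,
    det_sub hH hE hZ hx hg hgR hHC hD0C hHD (relIndex_le_of_card hHD (by rw [hD4, hH3]; ring_nf; rfl)) hDet,
    ?_⟩
  by_contra hcon
  push Not at hcon
  refine hnc ?_
  have hcH : ∀ u ∈ H, ∀ v ∈ D0, Commute u v := by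
    intro u hu v hv
    obtain ⟨q, hq, r, hr, rfl⟩ := Subgroup.mem_sup_of_normal_left.1 (hsup.ge hv)
    exact (hcon u hu q (hD0E hq.1)).mul_right (((hAmem r).1 hr).2 u hu.1).symm
  obtain ⟨q, hq, r, hr, rfl⟩ := Subgroup.mem_sup_of_normal_left.1 (hsup.ge ha)
  exact (hcH q hq b hb).mul_left (((hAmem r).1 hr).2 b hb)

end

end Cfsg.Agent.Fusion.RankThree.Normal.Unmoved
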