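import Cfsg.Agent.Lib.Fusion.RankThree.Normal.Unmoved.Detect
import Cfsg.Agent.Lib.Fusion.RankThree.Normal.CaseTower

/-!
The centraliser of the natural configuration and the line in the second centre.
-/

set_option autoImplicit false
set_option linter.unusedSectionVars false
set_option linter.style.haveILetI false

namespace Cfsg.Agent.Fusion.RankThree.Normal.Unmoved

open Cfsg Cfsg.FusionSystem
open Cfsg.Agent.Fusion Cfsg.Agent.Fusion.Basic Cfsg.Agent.Fusion.Saturation
open Cfsg.Agent.Fusion.RankThree Cfsg.Agent.Fusion.RankThree.Normal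
open Subgroup (zpowers closure mem_zpowers mem_zpowers_iff normalizer)

variable {X : Type*} [Group X] [Finite X] {p : ℕ} [hp : Fact p.Prime] {F : FusionSystem (⊤ : Subgroup X)}
  {E : Subgroup X}

theorem normal_of_central {I : Subgroup X} (h : I ≤ omegaX p X) : I.Normal :=
  ⟨fun v hv y => by rw [((h hv).2.2 y (Subgroup.mem_top y)).symm.eq, mul_inv_cancel_right]; exact hv⟩

theorem omegaX_commute {v : X} (h : v ∈ omegaX p X) (y : X) : Commute v y := h.2.2 y (Subgroup.mem_top y)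

/-- The kernel of commutation with one element has small index. -/
theorem hyper {P I : Subgroup X} (hI : ∀ v ∈ I, ∀ y : X, Commute v y) (d : X) (h : ∀ e ∈ P, cm d e ∈ I) :
    Nat.card P ≤ Nat.card I * Nat.card (P ⊓ cmInto d ⊥ : Subgroup X) := by
  let f : P →* X :=
    { toFun := fun e => cm d e
      map_one' := by rw [Subgroup.coe_one, cm_one_right]
      map_mul' := fun a b => by
        rw [Subgroup.coe_mul, cm_mul_right, mul_assoc _ (cm d a) (b : X), (hI _ (h a a.2) b).eq,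
          inv_mul_cancel_left, (hI _ (h a a.2) _).eq] }
  have h1 : Nat.card f.range ≤ Nat.card I :=
    Subgroup.card_le_of_le (by rintro _ ⟨e, rfl⟩; exact h e e.2)
  have h2 : Nat.card f.ker = Nat.card (P ⊓ cmInto d ⊥ : Subgroup X) := by
    rw [← Subgroup.card_map_of_injective (P.subtype_injective) (K := f.ker)]
    congr 1
    refine congrArg (fun H : Subgroup X => (H : Type _)) ?_
    ext v
    constructor
    · rintro ⟨w, hw, rfl⟩
      exact ⟨w.2, Subgroup.mem_bot.2 (MonoidHom.mem_ker.1 hw)⟩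
    · rintro ⟨hv, hv'⟩
      exact ⟨⟨v, hv⟩, MonoidHom.mem_ker.2 (Subgroup.mem_bot.1 hv'), rfl⟩
  rw [← f.ker.card_mul_index, Subgroup.index_ker, h2, mul_comm]
  exact Nat.mul_le_mul_right _ h1

/-- Elements of the second centre commute with commutators. -/
theorem commute_cm {u : X} (h : ∀ y : X, ∀ w : X, Commute (cm u y) w) (a b : X) : Commute u (cm a b) := by
  have e1 : u * (a * b) = a * b * u * (cm u a * cm u b) := by
    rw [← mul_assoc, mul_eq_mul_cm u a, mul_assoc (a * u), (h a b).eq, ← mul_assoc, mul_assoc a u b,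
      mul_eq_mul_cm u b, (h a (cm u b)).eq]
    group
  have e2 : u * (b * a) = b * a * u * (cm u a * cm u b) := by
    rw [← mul_assoc, mul_eq_mul_cm u b, mul_assoc (b * u), (h b a).eq, ← mul_assoc, mul_assoc b u a,
      mul_eq_mul_cm u a]
    group
  rw [mul_eq_mul_cm a b, ← mul_assoc, e2, mul_assoc (b * a) (cm a b) u, mul_assoc (b * a * u),
    ((h a (cm a b)).mul_left (h b (cm a b))).eq, ← mul_assoc, mul_left_inj, mul_assoc (b * a) u,
    mul_right_inj] at e1
  exact e1

section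

variable (hH : Hyp p F) (hE : F.IsEssential p E) [hEn : E.Normal] (hZ : AInv F E (omegaX p X))
  {x : X} (hx : x ∉ E) {g : MulAut E} (hg : g ∈ F.autGroup E)
  (hgR : g * cA E x * g⁻¹ ∉ autInducedBy (⊤ : Subgroup X) E)
  {D I : Subgroup X} (hC : Core p (pairC E x g) D I)
include hH hE hEn hZ hx hg hgR hC

theorem Core.fix {σ : MulAut E} (hσ : σ ∈ pairC E x g) {v : X} (hv : v ∈ I) : autFun σ v = v :=
  pairC_fix hH hE hZ hx hg hgR hσ (hC.central hv)

theorem Core.between {R : Subgroup X} (hR : CI (pairC E x g) R) (hIR : I ≤ R) (hRD : R ≤ D) :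
    R = I ∨ R = D := by
  by_contra hcon
  push Not at hcon
  have h1 := mul_card_le (hH.grp.to_subgroup R) (lt_of_le_of_ne hIR (Ne.symm hcon.1))
  have h2 := mul_card_le (hH.grp.to_subgroup D) (lt_of_le_of_ne hRD hcon.2)
  obtain ⟨r, hr⟩ := IsPGroup.iff_card.1 (hH.grp.to_subgroup R)
  rw [hC.cardI, hr, ← pow_two] at h1
  rw [hC.cardD, hr, ← pow_succ'] at h2
  have e1 := (Nat.pow_le_pow_iff_right hp.out.one_lt).1 h1
  have e2 := (Nat.pow_le_pow_iff_right hp.out.one_lt).1 h2
  obtain rfl : r = 2 := by omega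
  exact not_det hH hE hZ hx hg hgR hC.central hR hC.ciD hC.ciI hIR hRD
    (relIndex_le_of_card hIR (by rw [hC.cardI, hr, pow_two]))
    (relIndex_le_of_card hRD (by rw [hC.cardD, hr]; ring_nf; rfl)) hC.det

theorem Core.comm_mem {d e : X} (hd : d ∈ D) (he : e ∈ E) : cm d e ∈ I := by
  haveI := normal_of_central hC.central
  haveI := hC.normalD
  obtain ⟨v, hv, hvI, hvc⟩ := exists_step hH.grp (N := I) (H := D) fun hle => by
    have := Subgroup.card_le_of_le hle
    rw [hC.cardD, hC.cardI] at this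
    exact absurd this (not_le.2 (lt_self_pow₀ hp.out.one_lt (by norm_num)))
  have hci : CI (pairC E x g) (kerI D E I) :=
    hC.ciD.kerI (ci_self hH hE hZ hx hg hgR) hC.ciI
  have hle : I ≤ kerI D E I := fun v hv => ⟨hC.le hv, fun y _ => by
    rw [cm_eq_one_iff.2 (omegaX_commute (hC.central hv) y)]; exact one_mem _⟩
  rcases hC.between hH hE hZ hx hg hgR hci hle (fun v hv => hv.1) with h | h
  · exact absurd (h.le ⟨hv, fun y _ => hvc y⟩) hvI
  · exact (h.ge hd).2 e he

theorem Core.dual {d : X} (hd : d ∈ D) (h : ∀ e ∈ E, Commute d e) : d ∈ I := by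
  have hci : CI (pairC E x g) (kerI D E ⊥) := hC.ciD.kerI (ci_self hH hE hZ hx hg hgR)
    ⟨bot_le, fun s _ v hv => by rw [Subgroup.mem_bot.1 hv, af_one']; exact one_mem _⟩
  have hle : I ≤ kerI D E ⊥ := fun v hv => ⟨hC.le hv, fun y _ =>
    Subgroup.mem_bot.2 (cm_eq_one_iff.2 (omegaX_commute (hC.central hv) y))⟩
  have hdm : d ∈ kerI D E ⊥ := ⟨hd, fun e he => Subgroup.mem_bot.2 (cm_eq_one_iff.2 (h e he))⟩
  rcases hC.between hH hE hZ hx hg hgR hci hle (fun v hv => hv.1) with h1 | h1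
  · exact h1.le hdm
  · obtain ⟨u, hu, e, he, hne⟩ := hC.noncentral
    exact absurd (cm_eq_one_iff.1 (Subgroup.mem_bot.1 ((h1.ge hu).2 e he))) hne

/-- The outer element moves the section `D / I`. -/
theorem Core.moves (h : ∀ v ∈ D, v⁻¹ * autFun (cA E x) v ∈ I) : False := by
  set α := cA E x with hα
  set β := g * α * g⁻¹ with hβ
  have hαC : α ∈ pairC E x g := Subgroup.subset_closure (Or.inl rfl)
  have hβC : β ∈ pairC E x g := Subgroup.subset_closure (Or.inr rfl)
  let R : MulAut E → ℤ → Prop := fun σ n => ∀ v ∈ D, ∃ i ∈ I, autFun σ v = autFun (β ^ n) v * i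
  have hone : R 1 0 := fun v hv => ⟨1, one_mem _, by rw [zpow_zero, mul_one]⟩
  have hmul : ∀ σ τ n m, σ ∈ pairC E x g → R σ n → R τ m → R (σ * τ) (n + m) := by
    intro σ τ n m hσ hs ht v hv
    obtain ⟨i, hi, hie⟩ := ht v hv
    have hv' : autFun (β ^ m) v ∈ D := hC.ciD.2 _ (zpow_mem hβC m) v hv
    obtain ⟨j, hj, hje⟩ := hs _ hv'
    refine ⟨j * i, mul_mem hj hi, ?_⟩
    rw [autFun_mul, hie, af_mul σ (hC.ciD.1 hv') (hC.ciI.1 hi), hC.fix hH hE hZ hx hg hgR hσ hi, hje,
      zpow_add, autFun_mul, mul_assoc]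
  have hmem : ∀ σ ∈ pairC E x g, ∃ n, R σ n := by
    intro σ hσ
    induction hσ using Subgroup.closure_induction with
    | mem σ hσ =>
      rcases hσ with rfl | rfl
      · exact ⟨0, fun v hv => ⟨_, h v hv, by rw [zpow_zero, autFun_one, id, mul_inv_cancel_left]⟩⟩
      · exact ⟨1, fun v hv => ⟨1, one_mem _, by rw [zpow_one, mul_one]⟩⟩
    | one => exact ⟨0, hone⟩
    | mul σ τ hσ _ ihs iht =>
      obtain ⟨n, hn⟩ := ihs
      obtain ⟨m, hm⟩ := iht
      exact ⟨n + m, hmul σ τ n m hσ hn hm⟩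
    | inv σ hσ ihs =>
      obtain ⟨n, hn⟩ := ihs
      refine ⟨-n, fun v hv => ?_⟩
      have hv' : autFun (β ^ (-n)) v ∈ D := hC.ciD.2 _ (zpow_mem hβC _) v hv
      obtain ⟨j, hj, hje⟩ := hn _ hv'
      rw [← autFun_mul (β ^ n), ← zpow_add, add_neg_cancel, zpow_zero, autFun_one, id] at hje
      refine ⟨j⁻¹, inv_mem hj, ?_⟩
      have h1 := congrArg (autFun σ⁻¹) hje
      rw [autFun_inv_apply, af_mul σ⁻¹ (hC.ciD.1 hv) (hC.ciI.1 hj),
        hC.fix hH hE hZ hx hg hgR (inv_mem hσ) hj] at h1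
      rw [h1, mul_inv_cancel_right]
  refine hC.det fun σ hσ => ?_
  obtain ⟨n, hn⟩ := hmem σ hσ
  obtain ⟨k, hk⟩ := exists_pow_gen hH hE hZ hx hg hgR (σ := β) (Or.inr rfl)
  have hpow : ∀ m : ℕ, R (σ ^ m) (n * m) := by
    intro m
    induction m with
    | zero => simpa using hone
    | succ m ih =>
      rw [pow_succ, Nat.cast_succ, mul_add, mul_one]
      exact hmul _ _ _ _ (pow_mem hσ m) ih hn
  refine ⟨k + 1, fun v hv => ?_⟩
  set τ := σ ^ p ^ k with hτ
  obtain ⟨i, hi, hie⟩ := hpow (p ^ k) v hv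
  rw [mul_comm, zpow_mul, zpow_natCast, hk, one_zpow, autFun_one, id, ← hτ] at hie
  have hm : ∀ m : ℕ, autFun (τ ^ m) v = v * i ^ m := by
    intro m
    induction m with
    | zero => rw [pow_zero, autFun_one, id, pow_zero, mul_one]
    | succ m ih =>
      rw [pow_succ', autFun_mul, ih, af_mul τ (hC.ciD.1 hv) (hC.ciI.1 (pow_mem hi m)), hie,
        hC.fix hH hE hZ hx hg hgR (pow_mem hσ _) (pow_mem hi m), pow_succ', mul_assoc]
  rw [pow_succ, pow_mul, ← hτ, hm, hC.exp i (hC.le hi), mul_one]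

theorem Core.cm_self_mem {e f : X} (he : e ∈ E) (hf : f ∈ E) : cm e f ∈ kerI E D ⊥ := by
  refine ⟨mul_mem (mul_mem (mul_mem (inv_mem he) (inv_mem hf)) he) hf, fun d hd => Subgroup.mem_bot.2 ?_⟩
  have hz : ∀ {e : X}, e ∈ E → ∀ w, Commute (cm d e) w := fun he w =>
    omegaX_commute (hC.central (hC.comm_mem hH hE hZ hx hg hgR hd he)) w
  have h1 : d * (e * f) = e * f * d * (cm d e * cm d f) := by
    rw [← mul_assoc, mul_eq_mul_cm d e, mul_assoc (e * d), (hz he f).eq, ← mul_assoc, mul_assoc e d f,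
      mul_eq_mul_cm d f, (hz he (cm d f)).eq]
    group
  have h2 : d * (f * e) = f * e * d * (cm d e * cm d f) := by
    rw [← mul_assoc, mul_eq_mul_cm d f, mul_assoc (f * d), (hz hf e).eq, ← mul_assoc, mul_assoc f d e,
      mul_eq_mul_cm d e]
    group
  rw [mul_eq_mul_cm e f, ← mul_assoc, h2, mul_assoc (f * e) (cm e f) d, mul_assoc (f * e * d),
    ((hz he (cm e f)).mul_left (hz hf (cm e f))).eq, ← mul_assoc, mul_left_inj, mul_assoc (f * e) d,
    mul_right_inj] at h1
  exact cm_eq_one_iff.2 (show Commute d (cm e f) from h1).symm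

theorem Core.pow_p_mem {e : X} (he : e ∈ E) : e ^ p ∈ kerI E D ⊥ := by
  refine ⟨pow_mem he p, fun d hd => Subgroup.mem_bot.2 ?_⟩
  have hI' := hC.comm_mem hH hE hZ hx hg hgR hd he
  have h1 := cm_pow_right (a := d) (b := e) (omegaX_commute (hC.central hI') e) (p : ℤ)
  rw [zpow_natCast, zpow_natCast, hC.exp _ (hC.le hI')] at h1
  rw [cm_swap, h1, inv_one]

theorem Core.card_E : Nat.card E = p ^ 2 * Nat.card (kerI E D ⊥) := by
  haveI := hC.normalD
  set K := kerI E D ⊥ with hK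
  have hsw : ∀ {e d : X}, cm d e = 1 → cm e d = 1 := fun h => by rw [cm_swap, h, inv_one]
  have hcen : ∀ v ∈ I, ∀ y : X, Commute v y := fun v hv => omegaX_commute (hC.central hv)
  obtain ⟨d1, hd1, hd1I⟩ : ∃ d ∈ D, d ∉ I := SetLike.not_le_iff_exists.1 fun hle => by
    have := Subgroup.card_le_of_le hle
    rw [hC.cardD, hC.cardI] at this
    exact absurd this (not_le.2 (lt_self_pow₀ hp.out.one_lt (by norm_num)))
  obtain ⟨d2, hd2, hd2I⟩ : ∃ d ∈ D, d ∉ I ⊔ zpowers d1 := SetLike.not_le_iff_exists.1 fun hle => by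
    haveI := normal_of_central hC.central
    have h1 := (Subgroup.card_le_of_le hle).trans (card_sup_zpowers_le (B := I) (hC.exp d1 hd1))
    rw [hC.cardD, hC.cardI, ← pow_two] at h1
    exact absurd ((Nat.pow_le_pow_iff_right hp.out.one_lt).1 h1) (by norm_num)
  have hgen : I ⊔ zpowers d1 ⊔ zpowers d2 = D := Subgroup.eq_of_le_of_card_ge
    (sup_le (sup_le hC.le (Subgroup.zpowers_le.2 hd1)) (Subgroup.zpowers_le.2 hd2)) (by
      refine le_trans ?_ (mul_card_le_sup hH.grp hd2I)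
      rw [hC.cardD, show p ^ 3 = p * (p * p) by ring]
      refine Nat.mul_le_mul_left p (le_trans ?_ (mul_card_le_sup hH.grp hd1I))
      rw [hC.cardI])
  refine le_antisymm ?_ ?_
  · have h1 := hyper hcen d1 (P := E) fun e he => hC.comm_mem hH hE hZ hx hg hgR hd1 he
    have h2 := hyper hcen d2 (P := E ⊓ cmInto d1 ⊥) fun e he => hC.comm_mem hH hE hZ hx hg hgR hd2 he.1
    rw [hC.cardI] at h1 h2
    have hle : E ⊓ cmInto d1 ⊥ ⊓ cmInto d2 ⊥ ≤ K := by
      rintro e ⟨⟨he, he1⟩, he2⟩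
      refine ⟨he, fun d hd => Subgroup.mem_bot.2 (cm_eq_one_iff.2 ?_)⟩
      have hle : I ⊔ zpowers d1 ⊔ zpowers d2 ≤ Subgroup.centralizer {e} := by
        refine sup_le (sup_le (fun v hv => ?_) ?_) ?_
        · exact Subgroup.mem_centralizer_singleton_iff.2 (hcen v hv e).eq
        · exact Subgroup.zpowers_le.2 (Subgroup.mem_centralizer_singleton_iff.2
            (cm_eq_one_iff.1 (Subgroup.mem_bot.1 he1)).eq)
        · exact Subgroup.zpowers_le.2 (Subgroup.mem_centralizer_singleton_iff.2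
            (cm_eq_one_iff.1 (Subgroup.mem_bot.1 he2)).eq)
      exact (Subgroup.mem_centralizer_singleton_iff.1 (hle (hgen.ge hd))).symm
    calc Nat.card E ≤ p * (p * Nat.card (E ⊓ cmInto d1 ⊥ ⊓ cmInto d2 ⊥ : Subgroup X)) :=
          h1.trans (Nat.mul_le_mul_left p h2)
      _ ≤ p * (p * Nat.card K) := Nat.mul_le_mul_left p (Nat.mul_le_mul_left p (Subgroup.card_le_of_le hle))
      _ = p ^ 2 * Nat.card K := by ring
  · obtain ⟨u, hu, e1, he1, hne⟩ := hC.noncentral
    have he1K : e1 ∉ K := fun h => hne (cm_eq_one_iff.1 (hsw (Subgroup.mem_bot.1 (h.2 u hu))))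
    obtain ⟨e2, he2, he2K⟩ : ∃ e ∈ E, e ∉ K ⊔ zpowers e1 := SetLike.not_le_iff_exists.1 fun hle => by
      have h1 := hyper hcen e1 (P := D) fun d hd => by
        rw [cm_swap]; exact inv_mem (hC.comm_mem hH hE hZ hx hg hgR hd he1)
      rw [hC.cardI] at h1
      have h2 : (D ⊓ cmInto e1 ⊥ : Subgroup X) ≤ I := by
        rintro d ⟨hd, hde⟩
        refine hC.dual hH hE hZ hx hg hgR hd fun e he => ?_
        have hle' : K ⊔ zpowers e1 ≤ Subgroup.centralizer {d} := sup_le
          (fun v hv => Subgroup.mem_centralizer_singleton_iff.2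
            (cm_eq_one_iff.1 (Subgroup.mem_bot.1 (hv.2 d hd))).eq)
          (Subgroup.zpowers_le.2 (Subgroup.mem_centralizer_singleton_iff.2
            (cm_eq_one_iff.1 (Subgroup.mem_bot.1 hde)).eq))
        exact (Subgroup.mem_centralizer_singleton_iff.1 (hle' (hle he))).symm
      have h3 := h1.trans (Nat.mul_le_mul_left p (Subgroup.card_le_of_le h2))
      rw [hC.cardD, hC.cardI, ← pow_two] at h3
      exact absurd ((Nat.pow_le_pow_iff_right hp.out.one_lt).1 h3) (by norm_num)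
    calc p ^ 2 * Nat.card K = p * (p * Nat.card K) := by ring
      _ ≤ p * Nat.card (K ⊔ zpowers e1 : Subgroup X) := Nat.mul_le_mul_left p (mul_card_le_sup hH.grp he1K)
      _ ≤ Nat.card (K ⊔ zpowers e1 ⊔ zpowers e2 : Subgroup X) := mul_card_le_sup hH.grp he2K
      _ ≤ Nat.card E := Subgroup.card_le_of_le
          (sup_le (sup_le (fun v hv => hv.1) (Subgroup.zpowers_le.2 he1)) (Subgroup.zpowers_le.2 he2))

/-- The outer element moves `E` modulo the centraliser. -/
theorem Core.not_cm_x (h : ∀ e ∈ E, cm e x ∈ kerI E D ⊥) : False := by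
  haveI := hC.normalD
  haveI : (kerI E D ⊥ : Subgroup X).Normal := kerI_normal
  refine hC.moves hH hE hZ hx hg hgR fun d hd => hC.dual hH hE hZ hx hg hgR ?_ fun e he => ?_
  · exact mul_mem (inv_mem hd) (hC.ciD.2 _ (Subgroup.subset_closure (Or.inl rfl)) d hd)
  set α := cA E x with hα
  have hαC : α ∈ pairC E x g := Subgroup.subset_closure (Or.inl rfl)
  have hd' : autFun α d ∈ D := hC.ciD.2 α hαC d hd
  have hI' := hC.comm_mem hH hE hZ hx hg hgR hd he
  -- the pairing is preserved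
  have h1 : cm (autFun α d) (autFun α e) = cm d e := by
    rw [← af_cm α (hC.ciD.1 hd) he, hC.fix hH hE hZ hx hg hgR hαC hI']
  set k := e⁻¹ * autFun α e with hk
  have hkK : k ∈ kerI E D ⊥ := by
    have h2 := (inferInstance : (kerI E D ⊥ : Subgroup X).Normal).conj_mem _ (inv_mem (h e he)) x
    rw [hk, hα, cA_apply x he]
    rwa [cm_def, show x * (e⁻¹ * x⁻¹ * e * x)⁻¹ * x⁻¹ = e⁻¹ * (x * e * x⁻¹) by group] at h2
  rw [show autFun α e = e * k from (mul_inv_cancel_left e _).symm, cm_mul_right,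
    show cm (autFun α d) k = 1 from by rw [cm_swap, Subgroup.mem_bot.1 (hkK.2 _ hd'), inv_one], one_mul,
    mul_assoc, (omegaX_commute (hC.central (hC.comm_mem hH hE hZ hx hg hgR hd' he)) k).eq,
    inv_mul_cancel_left] at h1
  refine cm_eq_one_iff.1 ?_
  have hc := omegaX_commute (hC.central hI')
  have h2 := cm_pow_left (a := d) (b := e) (hc d) (-1)
  rw [zpow_neg_one, zpow_neg_one] at h2
  rw [cm_mul_left, h2, mul_assoc _ (cm d e)⁻¹, ((hc (autFun α d)).inv_left).eq, inv_mul_cancel_left, h1,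
    inv_mul_cancel]

theorem Core.irr {R : Subgroup X} (hR : CI (pairC E x g) R) (hKR : kerI E D ⊥ ≤ R) :
    R = kerI E D ⊥ ∨ R = E := by
  have hcen : ∀ v ∈ I, ∀ y : X, Commute v y := fun v hv => omegaX_commute (hC.central hv)
  have hci : CI (pairC E x g) (kerI D R ⊥) := hC.ciD.kerI hR
    ⟨bot_le, fun s _ v hv => by rw [Subgroup.mem_bot.1 hv, af_one']; exact one_mem _⟩
  have hle : I ≤ kerI D R ⊥ := fun v hv => ⟨hC.le hv, fun y _ =>
    Subgroup.mem_bot.2 (cm_eq_one_iff.2 (hcen v hv y))⟩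
  rcases hC.between hH hE hZ hx hg hgR hci hle (fun v hv => hv.1) with h | h
  · by_contra hcon
    push Not at hcon
    obtain ⟨r, hr, hrK⟩ := SetLike.not_le_iff_exists.1 fun hle => hcon.1 (le_antisymm hle hKR)
    have h1 := mul_card_le (hH.grp.to_subgroup E) (lt_of_le_of_ne hR.1 hcon.2)
    rw [hC.card_E hH hE hZ hx hg hgR, pow_two, mul_assoc] at h1
    have heq : kerI E D ⊥ ⊔ zpowers r = R := Subgroup.eq_of_le_of_card_ge
      (sup_le hKR (Subgroup.zpowers_le.2 hr))
      ((Nat.le_of_mul_le_mul_left h1 hp.out.pos).trans (mul_card_le_sup hH.grp hrK))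
    have h2 := hyper hcen r (P := D) fun d hd => by
      rw [cm_swap]; exact inv_mem (hC.comm_mem hH hE hZ hx hg hgR hd (hR.1 hr))
    have h3 : (D ⊓ cmInto r ⊥ : Subgroup X) ≤ I := by
      rintro d ⟨hd, hdr⟩
      refine h.le ⟨hd, fun e he => Subgroup.mem_bot.2 (cm_eq_one_iff.2 ?_)⟩
      have hle' : kerI E D ⊥ ⊔ zpowers r ≤ Subgroup.centralizer {d} := sup_le
        (fun v hv => Subgroup.mem_centralizer_singleton_iff.2
          (cm_eq_one_iff.1 (Subgroup.mem_bot.1 (hv.2 d hd))).eq)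
        (Subgroup.zpowers_le.2 (Subgroup.mem_centralizer_singleton_iff.2
          (cm_eq_one_iff.1 (Subgroup.mem_bot.1 hdr)).eq))
      exact (Subgroup.mem_centralizer_singleton_iff.1 (hle' (heq.ge he))).symm
    have h4 := h2.trans (Nat.mul_le_mul_left _ (Subgroup.card_le_of_le h3))
    rw [hC.cardD, hC.cardI, ← pow_two] at h4
    exact absurd ((Nat.pow_le_pow_iff_right hp.out.one_lt).1 h4) (by norm_num)
  · refine Or.inl (le_antisymm (fun e he => ⟨hR.1 he, fun d hd => Subgroup.mem_bot.2 ?_⟩) hKR)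
    rw [cm_swap, Subgroup.mem_bot.1 ((h.ge hd).2 e he), inv_one]

theorem Core.card_U : Nat.card (haveI := normal_of_central hC.central; kerI D ⊤ I : Subgroup X) = p ^ 2 := by
  haveI := normal_of_central hC.central
  haveI := hC.normalD
  set U := kerI D ⊤ I with hU
  have hle : I ≤ U := fun v hv => ⟨hC.le hv, fun y _ => by
    rw [cm_eq_one_iff.2 (omegaX_commute (hC.central hv) y)]; exact one_mem _⟩
  obtain ⟨v, hv, hvI, hvc⟩ := exists_step hH.grp (N := I) (H := D) fun hle => by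
    have := Subgroup.card_le_of_le hle
    rw [hC.cardD, hC.cardI] at this
    exact absurd this (not_le.2 (lt_self_pow₀ hp.out.one_lt (by norm_num)))
  have hne : ¬ D ≤ U := fun hDU => hC.moves hH hE hZ hx hg hgR fun d hd => by
    rw [cA_apply x (hC.ciD.1 hd)]
    have := (hDU hd).2 x⁻¹ (Subgroup.mem_top _)
    rwa [cm_def, inv_inv, mul_assoc _ d, mul_assoc d⁻¹, ← mul_assoc x] at this
  have h1 := mul_card_le (hH.grp.to_subgroup U) (lt_of_le_of_ne hle fun h => hvI (h.ge ⟨hv, fun y _ => hvc y⟩))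
  have h2 := mul_card_le (hH.grp.to_subgroup D) (lt_of_le_of_ne (fun v hv => hv.1 : U ≤ D) fun h => hne h.ge)
  obtain ⟨r, hr⟩ := IsPGroup.iff_card.1 (hH.grp.to_subgroup U)
  rw [hC.cardI, hr, ← pow_two] at h1
  rw [hC.cardD, hr, ← pow_succ'] at h2
  have e1 := (Nat.pow_le_pow_iff_right hp.out.one_lt).1 h1
  have e2 := (Nat.pow_le_pow_iff_right hp.out.one_lt).1 h2
  rw [hr, show r = 2 by omega]

end

end Cfsg.Agent.Fusion.RankThree.Normal.Unmoved
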