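import Cfsg.Agent.Lib.Fusion.RankThree.Normal.Unmoved.Side
import Cfsg.Agent.Lib.Fusion.RankThree.Normal.CaseOut
import Cfsg.Agent.GenA.RankTwo.Basic

/-!
Two normal essential subgroups invariant under the automorphisms of the group do not both fix the
elements of order `p` of the centre.
-/

set_option autoImplicit false
set_option linter.unusedSectionVars false
set_option linter.style.haveILetI false

namespace Cfsg.Agent.Fusion.RankThree.Normal.Unmoved

open Cfsg Cfsg.FusionSystem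
open Cfsg.Agent.Fusion Cfsg.Agent.Fusion.Basic Cfsg.Agent.Fusion.Saturation
open Cfsg.Agent.Fusion.RankThree Cfsg.Agent.Fusion.RankThree.Normal
open Subgroup (zpowers closure mem_zpowers mem_zpowers_iff normalizer centralizer)

variable {X : Type*} [Group X] [Finite X] {p : ℕ} [hp : Fact p.Prime] {F : FusionSystem (⊤ : Subgroup X)}

theorem mem_of_sq (hp2 : p ≠ 2) {N : Subgroup X} {v : X} (h2 : v ^ 2 ∈ N) (hvp : v ^ p ∈ N) : v ∈ N := by
  obtain ⟨m, hm⟩ := hp.out.odd_of_ne_two hp2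
  have h1 := mul_mem hvp (inv_mem (pow_mem h2 m))
  rwa [← pow_mul, hm, pow_succ', mul_inv_cancel_right] at h1

theorem mem_of_zpow {N : Subgroup X} {v : X} {n : ℤ} (hn : ¬ (p : ℤ) ∣ n) (h : v ^ n ∈ N)
    (hvp : v ^ p ∈ N) : v ∈ N := by
  obtain ⟨a, b, hab⟩ : IsCoprime (p : ℤ) n :=
    (Nat.prime_iff_prime_int.1 hp.out).coprime_iff_not_dvd.2 hn
  have h1 := mul_mem (zpow_mem hvp a) (zpow_mem h b)
  rwa [← zpow_natCast, ← zpow_mul, ← zpow_mul, ← zpow_add, mul_comm (p : ℤ), mul_comm n, hab, zpow_one] at h1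

section

variable {E D I U K : Subgroup X} {C : Subgroup (MulAut E)} {θ : X → X}

theorem Side.normI (h : Side p F E D I U K C θ) : I.Normal := normal_of_central h.central

theorem Side.leK (h : Side p F E D I U K C θ) : K ≤ E := fun e he => ((h.memK e).1 he).1

theorem Side.omega_le (hH : Hyp p F) (h : Side p F E D I U K C θ) : omegaX p X ≤ K := fun v hv =>
  (h.memK v).2 ⟨centralizer_le hH h.ess fun w _ => (omegaX_commute hv w).symm,
    fun d _ => omegaX_commute hv d⟩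

theorem Side.cm_mem_E (hH : Hyp p F) (h : Side p F E D I U K C θ) (a b : X) : cm a b ∈ E := by
  haveI := h.normE
  obtain ⟨x, hx⟩ := SetLike.exists_not_mem_of_ne_top E
    (Alperin.essential_lt (hH.grp.to_subgroup ⊤) hH.sat h.ess).ne
  have hq : ∀ c : X, ∃ n : ℤ, QuotientGroup.mk' E c = QuotientGroup.mk' E x ^ n := fun c => by
    obtain ⟨v, hv, n, rfl⟩ := decomp hH h.ess hx c
    exact ⟨n, by rw [map_mul, map_zpow, show QuotientGroup.mk' E v = 1 from
      (QuotientGroup.eq_one_iff v).2 hv, one_mul]⟩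
  obtain ⟨n, hn⟩ := hq a
  obtain ⟨m, hm⟩ := hq b
  refine mk_cm_eq_one_iff.1 ?_
  show Commute (QuotientGroup.mk' E a) (QuotientGroup.mk' E b)
  rw [hn, hm]
  exact (Commute.refl _).zpow_zpow n m

/-- The centraliser of the line in the second centre. -/
def Mid (E U : Subgroup X) : Subgroup X := E ⊓ centralizer (U : Set X)

theorem mem_Mid {E U : Subgroup X} {m : X} : m ∈ Mid E U ↔ m ∈ E ∧ ∀ u ∈ U, Commute u m :=
  ⟨fun h => ⟨h.1, fun u hu => Subgroup.mem_centralizer_iff.1 h.2 u hu⟩,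
    fun h => ⟨h.1, Subgroup.mem_centralizer_iff.2 fun u hu => h.2 u hu⟩⟩

theorem Side.normMid (h : Side p F E D I U K C θ) : (Mid E U).Normal := by
  refine ⟨fun m hm y => mem_Mid.2 ⟨h.normE.conj_mem m (mem_Mid.1 hm).1 y, fun u hu => ?_⟩⟩
  have h1 := ((mem_Mid.1 hm).2 _ (h.normU.conj_mem u hu y⁻¹)).map (MulAut.conj y).toMonoidHom
  simpa [mul_assoc] using h1

theorem Side.cm_mem_Mid (hH : Hyp p F) (h : Side p F E D I U K C θ) (a b : X) : cm a b ∈ Mid E U :=
  mem_Mid.2 ⟨h.cm_mem_E hH a b, fun u hu =>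
    commute_cm (fun y w => omegaX_commute (h.central (h.commU u hu y)) w) a b⟩

theorem Side.K_le_Mid (h : Side p F E D I U K C θ) : K ≤ Mid E U := fun k hk =>
  mem_Mid.2 ⟨h.leK hk, fun u hu => (((h.memK k).1 hk).2 u (h.UD hu)).symm⟩

theorem Side.exists_v (h : Side p F E D I U K C θ) :
    ∃ v ∈ U, v ∉ I ∧ ∀ {a : X}, Commute v a → ∀ u ∈ U, Commute u a := by
  haveI := h.normI
  obtain ⟨v, hv, hvI⟩ : ∃ v ∈ U, v ∉ I := SetLike.not_le_iff_exists.1 fun hle => by
    have := Subgroup.card_le_of_le hle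
    rw [h.cardU, h.cardI, pow_two] at this
    exact absurd this (not_le.2 (lt_mul_of_one_lt_left hp.out.pos hp.out.one_lt))
  refine ⟨v, hv, hvI, fun {a} ha u hu => ?_⟩
  have hgen : U ≤ I ⊔ zpowers v := by
    refine (Subgroup.eq_of_le_of_card_ge (sup_le h.IU (Subgroup.zpowers_le.2 hv)) ?_).ge
    obtain ⟨n, hn⟩ := IsPGroup.iff_card.1 (show IsPGroup p U from fun w => ⟨1, Subtype.ext (by
      simpa using h.expD w (h.UD w.2))⟩)
    have h2 := mul_card_le (p := p) (A := I) (B := I ⊔ zpowers v) (fun w => ⟨1, Subtype.ext (by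
      simpa using h.expD w (h.UD (sup_le h.IU (Subgroup.zpowers_le.2 hv) w.2)))⟩)
      (lt_of_le_of_ne le_sup_left fun h' => hvI (h'.ge (Subgroup.mem_sup_right (mem_zpowers v))))
    rwa [h.cardI, ← pow_two, ← h.cardU] at h2
  obtain ⟨i, hi, w, hw, rfl⟩ := Subgroup.mem_sup_of_normal_left.1 (hgen hu)
  obtain ⟨n, rfl⟩ := mem_zpowers_iff.1 hw
  exact (omegaX_commute (h.central hi) a).mul_left (ha.zpow_left n)

theorem Side.not_comm_U (h : Side p F E D I U K C θ) (hc : ∀ u ∈ U, ∀ e ∈ E, Commute u e) : False := by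
  obtain ⟨v, hv, hvI, -⟩ := h.exists_v
  exact hvI (h.dual v (h.UD hv) (hc v hv))

theorem Side.card_Mid (hH : Hyp p F) (h : Side p F E D I U K C θ) :
    Nat.card E = p * Nat.card (Mid E U) := by
  obtain ⟨v, hv, -, hgen⟩ := h.exists_v
  refine le_antisymm ?_ ?_
  · have h1 := hyper (fun i hi => omegaX_commute (h.central hi)) v (P := E)
      fun e he => h.commU v hv e
    rw [h.cardI] at h1
    exact h1.trans (Nat.mul_le_mul_left p (Subgroup.card_le_of_le fun e he =>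
      mem_Mid.2 ⟨he.1, hgen (cm_eq_one_iff.1 (Subgroup.mem_bot.1 he.2))⟩))
  · refine mul_card_le (hH.grp.to_subgroup E) (lt_of_le_of_ne (inf_le_left : Mid E U ≤ E) fun heq => ?_)
    exact h.not_comm_U fun u hu e he => (mem_Mid.1 (heq.ge he)).2 u hu

theorem Side.card_Mid_K (hH : Hyp p F) (h : Side p F E D I U K C θ) :
    Nat.card (Mid E U) = p * Nat.card K := by
  have h1 := h.card_Mid hH
  rw [h.cardK, pow_two, mul_assoc] at h1
  exact (Nat.eq_of_mul_eq_mul_left hp.out.pos h1).symm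

theorem Side.Mid_cm (hH : Hyp p F) (h : Side p F E D I U K C θ) {m : X} (hm : m ∈ Mid E U) (y : X) :
    cm m y ∈ K := by
  haveI := h.normK
  haveI := h.normMid
  obtain ⟨d, hd, hdK, hdc⟩ := exists_step hH.grp (N := K) (H := Mid E U) fun hle => by
    have := Subgroup.card_le_of_le hle
    rw [h.card_Mid_K hH] at this
    exact absurd this (not_le.2 (lt_mul_of_one_lt_left Nat.card_pos hp.out.one_lt))
  have hle : K ⊔ zpowers d ≤ kerI (Mid E U) ⊤ K := sup_le
    (fun k hk => ⟨h.K_le_Mid hk, fun y _ => cm_mem hk y⟩)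
    (Subgroup.zpowers_le.2 ⟨hd, fun y _ => hdc y⟩)
  have heq : K ⊔ zpowers d = Mid E U := Subgroup.eq_of_le_of_card_ge
    (sup_le h.K_le_Mid (Subgroup.zpowers_le.2 hd))
    (by rw [h.card_Mid_K hH]; exact mul_card_le_sup hH.grp hdK)
  exact (hle (heq.ge hm)).2 y (Subgroup.mem_top y)

theorem Side.theta_K (h : Side p F E D I U K C θ) {k : X} (hk : k ∈ K) : θ k ∈ K := by
  have := mul_mem (inv_mem hk) (h.inv k (h.leK hk))
  rwa [inv_mul_cancel_left] at this

theorem Side.pow_mem' (hH : Hyp p F) (h : Side p F E D I U K C θ) (v : X) : v ^ p ∈ K := by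
  haveI := h.normE
  haveI := h.normK
  by_cases hv : v ∈ E
  · exact h.powK v hv
  have hvE : v ^ p ∈ E := by
    have h1 := Subgroup.pow_index_mem E v
    rwa [index_p hH h.ess] at h1
  set t := v⁻¹ * θ v with ht
  have htE : t ∈ E := h.coset v
  set π := QuotientGroup.mk' K
  have hπ1 : ∀ a ∈ K, π a = 1 := fun a ha => (QuotientGroup.eq_one_iff a).2 ha
  have hcen : ∀ y : X, Commute (cm (π t) (π v)) (π y) := fun y => cm_eq_one_iff.1 (by
    rw [← map_cm π, ← map_cm π]; exact hπ1 _ (h.Mid_cm hH (h.cm_mem_Mid hH t v) y))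
  have hpow : π (θ (v ^ p)) = π (v ^ p) := by
    have hf : θ (v ^ p) = θ v ^ p := by
      let f : X →* X := MonoidHom.mk' θ fun a b => h.map.map_mul (Subgroup.mem_top a) (Subgroup.mem_top b)
      exact map_pow f v p
    rw [hf, map_pow, map_pow, show θ v = v * t from (mul_inv_cancel_left _ _).symm, map_mul,
      mul_pow_class_two_eq hp.out hH.odd (hcen v) (hcen t)
        (by rw [← map_cm π, ← map_pow]; exact hπ1 _ (h.powK _ (h.cm_mem_E hH t v))),
      show π t ^ p = 1 by rw [← map_pow]; exact hπ1 _ (h.powK t htE), mul_one]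
  have h1 := hπ1 _ (h.inv _ hvE)
  rw [map_mul, hpow, ← map_mul, ← pow_two] at h1
  exact mem_of_sq hH.odd ((QuotientGroup.eq_one_iff _).1 h1) (h.powK _ hvE)

theorem Side.not_ab (h : Side p F E D I U K C θ) (hH : Hyp p F) {V : Subgroup X} (hV : Elem p V)
    (hVE : V ≤ E) (hVc : ∀ v ∈ V, ∀ e ∈ E, Commute v e) (hV2 : Nat.card V = p ^ 2) :
    ∃ a ∈ D, ∃ b ∈ D, ¬ Commute a b := by
  by_contra hcon
  push Not at hcon
  have hW : Elem p (closure ((D : Set X) ∪ V)) := by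
    refine elem_closure ?_ ?_
    · rintro a (ha | ha) b (hb | hb)
      exacts [hcon a ha b hb, (hVc b hb a (h.leE ha)).symm, hVc a ha b (h.leE hb), hV.1 a ha b hb]
    · rintro a (ha | ha)
      exacts [h.expD a ha, hV.2 a ha]
  have heq : D = closure ((D : Set X) ∪ V) := Subgroup.eq_of_le_of_card_ge
    (fun v hv => Subgroup.subset_closure (Or.inl hv)) (by rw [h.cardD]; exact elem_le hH.rank hW)
  have h2 : V ≤ I := fun v hv => h.dual v (heq.ge (Subgroup.subset_closure (Or.inr hv))) (hVc v hv)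
  have := Subgroup.card_le_of_le h2
  rw [hV2, h.cardI, pow_two] at this
  exact absurd this (not_le.2 (lt_mul_of_one_lt_left hp.out.pos hp.out.one_lt))

set_option maxHeartbeats 800000 in
/-- The extraspecial configuration. -/
theorem Side.central_K (hH : Hyp p F) (h : Side p F E D I U K C θ) {d1 d2 : X} (hd1 : d1 ∈ D)
    (hd2 : d2 ∈ D) (hne : ¬ Commute d1 d2) :
    (∀ k ∈ K, ∀ e ∈ E, Commute k e) ∧ (∀ a ∈ E, ∀ b ∈ E, cm a b ∈ I) ∧
      ∃ k ∈ K, K ≤ I ⊔ zpowers k := by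
  haveI := h.normI
  haveI := h.normK
  have hIK : I ≤ K := h.central.trans (h.omega_le hH)
  have hd1K : d1 ∉ K := fun hk => hne (((h.memK d1).1 hk).2 d2 hd2)
  have hd2K : d2 ∉ K ⊔ zpowers d1 := fun hk => hne (by
    have hle : K ⊔ zpowers d1 ≤ centralizer {d1} := sup_le
      (fun v hv => Subgroup.mem_centralizer_singleton_iff.2 (((h.memK v).1 hv).2 d1 hd1).eq)
      (Subgroup.zpowers_le.2 (Subgroup.mem_centralizer_singleton_iff.2 rfl))
    exact (Subgroup.mem_centralizer_singleton_iff.1 (hle hk)).symm)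
  have hE : K ⊔ zpowers d1 ⊔ zpowers d2 = E := Subgroup.eq_of_le_of_card_ge
    (sup_le (sup_le h.leK (Subgroup.zpowers_le.2 (h.leE hd1))) (Subgroup.zpowers_le.2 (h.leE hd2))) (by
      rw [h.cardK, pow_two, mul_assoc]
      exact (Nat.mul_le_mul_left p (mul_card_le_sup hH.grp hd1K)).trans (mul_card_le_sup hH.grp hd2K))
  -- `K / I` is cyclic
  obtain ⟨k, hk, hKk⟩ : ∃ k ∈ K, K ≤ I ⊔ zpowers k := by
    by_cases hKI : K ≤ I
    · exact ⟨1, one_mem _, hKI.trans le_sup_left⟩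
    obtain ⟨d, hd, hdI, hdc⟩ := exists_step hH.grp (N := I) (H := K) hKI
    set π := QuotientGroup.mk' I with hπ
    obtain ⟨n, hn⟩ := IsPGroup.iff_orderOf.1 (hH.grp.to_quotient I) (π d)
    obtain ⟨m, rfl⟩ : ∃ m, n = m + 1 := Nat.exists_eq_succ_of_ne_zero fun h0 => hdI (by
      rw [h0, pow_zero, orderOf_eq_one_iff] at hn
      exact (QuotientGroup.eq_one_iff d).1 hn)
    set z0 := d ^ p ^ m with hz0
    have hz0p : z0 ^ p ∈ I := by
      rw [hz0, ← pow_mul, ← pow_succ, ← QuotientGroup.eq_one_iff, ← QuotientGroup.mk'_apply, map_pow, ← hn,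
        pow_orderOf_eq_one]
    have hz0I : z0 ∉ I := fun h0 => by
      have h1 := (QuotientGroup.eq_one_iff z0).2 h0
      rw [hz0, ← QuotientGroup.mk'_apply, map_pow] at h1
      have h2 := orderOf_dvd_of_pow_eq_one h1
      rw [hn, Nat.pow_dvd_pow_iff_le_right hp.out.one_lt] at h2
      omega
    have hz0c : ∀ y, cm z0 y ∈ I := fun y => by
      have h1 : d ∈ kerI K ⊤ I := ⟨hd, fun y _ => hdc y⟩
      exact (pow_mem h1 (p ^ m)).2 y (Subgroup.mem_top y)
    have hz0K : z0 ∈ K := pow_mem hd _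
    haveI : IsCyclic (K.map π) := by
      refine GenA.RankTwo.isCyclic_of_unique hH.odd ((hH.grp.to_quotient I).to_subgroup _) (z := π z0)
        (by rw [← map_pow]; exact (QuotientGroup.eq_one_iff _).2 hz0p) ?_
      rintro _ ⟨w, hw, rfl⟩ hwp
      by_contra hcon
      rw [← map_pow] at hwp
      have hwp' : w ^ p ∈ I := (QuotientGroup.eq_one_iff _).1 hwp
      have hwn : w ∉ I ⊔ zpowers z0 := fun hw' => hcon (by
        obtain ⟨i, hi, v, hv, rfl⟩ := Subgroup.mem_sup_of_normal_left.1 hw'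
        obtain ⟨j, rfl⟩ := mem_zpowers_iff.1 hv
        rw [map_mul, map_zpow, show π i = 1 from (QuotientGroup.eq_one_iff i).2 hi, one_mul]
        exact zpow_mem (mem_zpowers _) j)
      have hle : I ⊔ zpowers z0 ⊔ zpowers w ≤ K :=
        sup_le (sup_le hIK (Subgroup.zpowers_le.2 hz0K)) (Subgroup.zpowers_le.2 hw)
      have hKc : ∀ {c d : X}, c ∈ K → d ∈ D → cm c d = 1 := fun hc hd =>
        cm_eq_one_iff.2 (((h.memK _).1 hc).2 _ hd)
      obtain ⟨hc, hpw⟩ := sect_gen (N := I) (s := (I : Set X) ∪ {z0, w, d1, d2}) (p := p) (by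
        rintro a (ha | rfl | rfl | rfl | rfl) b (hb | rfl | rfl | rfl | rfl)
        all_goals first
          | exact cm_mem ha _
          | exact cm_mem' _ hb
          | (rw [cm_self]; exact one_mem _)
          | exact hz0c _
          | (rw [cm_swap]; exact inv_mem (hz0c _))
          | exact h.commD _ hd1 _ (h.leE hd2)
          | exact h.commD _ hd2 _ (h.leE hd1)
          | (rw [hKc hw hd1]; exact one_mem _)
          | (rw [hKc hw hd2]; exact one_mem _)
          | (rw [cm_swap, hKc hw hd1, inv_one]; exact one_mem _)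
          | (rw [cm_swap, hKc hw hd2, inv_one]; exact one_mem _)) (by
        rintro a (ha | rfl | rfl | rfl | rfl)
        · exact pow_mem ha p
        · exact hz0p
        · exact hwp'
        · rw [h.expD _ hd1]; exact one_mem _
        · rw [h.expD _ hd2]; exact one_mem _)
      exact sect_four hH.grp hH.rank (N := I) (H := closure ((I : Set X) ∪ {z0, w, d1, d2}))
        (fun v hv => Subgroup.subset_closure (Or.inl hv)) hc hpw
        (Subgroup.subset_closure (by simp : z0 ∈ ((I : Set X) ∪ {z0, w, d1, d2})))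
        (Subgroup.subset_closure (by simp : w ∈ ((I : Set X) ∪ {z0, w, d1, d2})))
        (Subgroup.subset_closure (by simp : d1 ∈ ((I : Set X) ∪ {z0, w, d1, d2})))
        (Subgroup.subset_closure (by simp : d2 ∈ ((I : Set X) ∪ {z0, w, d1, d2})))
        hz0I hwn (fun h' => hd1K (hle h')) fun h' => hd2K (sup_le_sup_right hle _ h')
    obtain ⟨⟨_, k, hk, rfl⟩, hg⟩ := IsCyclic.exists_generator (α := K.map π)
    refine ⟨k, hk, fun v hv => ?_⟩
    obtain ⟨j, hj⟩ := mem_zpowers_iff.1 (hg ⟨π v, v, hv, rfl⟩)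
    have h1 : π (k ^ j) = π v := by rw [map_zpow]; exact congrArg Subtype.val hj
    have h2 := mul_mem (Subgroup.mem_sup_right (zpow_mem (mem_zpowers k) j) : k ^ j ∈ I ⊔ zpowers k)
      (Subgroup.mem_sup_left (QuotientGroup.eq.1 h1))
    rwa [mul_inv_cancel_left] at h2
  have hKab : ∀ a ∈ K, ∀ b ∈ K, Commute a b := by
    intro a ha b hb
    obtain ⟨i, hi, v, hv, rfl⟩ := Subgroup.mem_sup_of_normal_left.1 (hKk ha)
    obtain ⟨i', hi', v', hv', rfl⟩ := Subgroup.mem_sup_of_normal_left.1 (hKk hb)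
    obtain ⟨n, rfl⟩ := mem_zpowers_iff.1 hv
    obtain ⟨n', rfl⟩ := mem_zpowers_iff.1 hv'
    exact (omegaX_commute (h.central hi) _).mul_left
      ((omegaX_commute (h.central hi') _).symm.mul_right ((Commute.refl k).zpow_zpow n n'))
  refine ⟨fun c hc e he => ?_, fun a ha b hb => ?_, k, hk, hKk⟩
  · have hle : K ⊔ zpowers d1 ⊔ zpowers d2 ≤ centralizer {c} := sup_le (sup_le
      (fun v hv => Subgroup.mem_centralizer_singleton_iff.2 (hKab v hv c hc).eq)
      (Subgroup.zpowers_le.2 (Subgroup.mem_centralizer_singleton_iff.2 (((h.memK c).1 hc).2 d1 hd1).symm.eq)))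
      (Subgroup.zpowers_le.2 (Subgroup.mem_centralizer_singleton_iff.2 (((h.memK c).1 hc).2 d2 hd2).symm.eq))
    exact (Subgroup.mem_centralizer_singleton_iff.1 (hle (hE.ge he))).symm
  · have hle : E ≤ closure ((K : Set X) ∪ {d1, d2}) := hE.ge.trans (sup_le (sup_le
      (fun v hv => Subgroup.subset_closure (Or.inl hv))
      (Subgroup.zpowers_le.2 (Subgroup.subset_closure (by simp))))
      (Subgroup.zpowers_le.2 (Subgroup.subset_closure (by simp))))
    refine cm_closure_mem (fun n hn c _ => omegaX_commute (h.central hn) c) ?_ a (hle ha) b (hle hb)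
    rintro u (hu | rfl | rfl) v (hv | rfl | rfl)
    all_goals first
      | (rw [cm_self]; exact one_mem _)
      | exact h.commD _ hd1 _ (h.leE hd2)
      | exact h.commD _ hd2 _ (h.leE hd1)
      | (rw [cm_eq_one_iff.2 (hKab u hu v hv)]; exact one_mem _)
      | (rw [cm_eq_one_iff.2 (((h.memK u).1 hu).2 _ hd1)]; exact one_mem _)
      | (rw [cm_eq_one_iff.2 (((h.memK u).1 hu).2 _ hd2)]; exact one_mem _)
      | (rw [cm_eq_one_iff.2 (((h.memK v).1 hv).2 _ hd1).symm]; exact one_mem _)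
      | (rw [cm_eq_one_iff.2 (((h.memK v).1 hv).2 _ hd2).symm]; exact one_mem _)

end

section

variable {E1 E2 D1 I1 U1 K1 D2 I2 U2 K2 : Subgroup X} {C1 : Subgroup (MulAut E1)}
  {C2 : Subgroup (MulAut E2)} {θ1 θ2 : X → X}
  (hH : Hyp p F) (h1 : Side p F E1 D1 I1 U1 K1 C1 θ1) (h2 : Side p F E2 D2 I2 U2 K2 C2 θ2)
  (hne : E1 ≠ E2) (hinv1 : ∀ θ : X → X, IsMap F (⊤ : Subgroup X) θ → ∀ v ∈ E1, θ v ∈ E1)
  (hinv2 : ∀ θ : X → X, IsMap F (⊤ : Subgroup X) θ → ∀ v ∈ E2, θ v ∈ E2)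
include hH h1 h2 hne hinv1 hinv2

/-- The second centre line is central in the other subgroup. -/
theorem central_of_le (hK : K1 ≤ E2) :
    E1 ⊓ E2 = Mid E1 U1 ∧ U1 ≤ E2 ∧ ∀ u ∈ U1, ∀ e ∈ E2, Commute u e := by
  have hT : Two p F E2 E1 := ⟨h2.ess, h1.ess, hne, h2.normE, h1.normE⟩
  haveI := h1.normE
  haveI := h2.normE
  haveI := h1.normK
  haveI := h1.normMid
  have hMT : Mid E1 U1 = E1 ⊓ E2 := by
    refine Subgroup.eq_of_le_of_card_ge (le_inf inf_le_left ?_) ?_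
    · -- generated by the centraliser and a commutator
      obtain ⟨a, b, hab⟩ : ∃ a b : X, cm a b ∉ K1 := by
        by_contra hcon
        push Not at hcon
        exact h1.moves fun e _ y => hcon e y
      have heq : K1 ⊔ zpowers (cm a b) = Mid E1 U1 := Subgroup.eq_of_le_of_card_ge
        (sup_le h1.K_le_Mid (Subgroup.zpowers_le.2 (h1.cm_mem_Mid hH a b)))
        (by rw [h1.card_Mid_K hH]; exact mul_card_le_sup hH.grp hab)
      rw [← heq]
      exact sup_le hK (Subgroup.zpowers_le.2 (h2.cm_mem_E hH a b))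
    · have e1 := hT.card_inf hH
      rw [h1.card_Mid hH] at e1
      exact (Nat.eq_of_mul_eq_mul_left hp.out.pos e1).ge
  obtain ⟨v, hv, hvI, hgen⟩ := h1.exists_v
  have hvE2 : ∀ u ∈ U1, u ∈ E2 := fun u hu => by
    have hu' : u ∈ Mid E1 U1 := mem_Mid.2 ⟨h1.leE (h1.UD hu), fun w hw => hgen (hgen (Commute.refl v) u hu).symm w hw⟩
    exact (hMT ▸ hu' : u ∈ E1 ⊓ E2).2
  obtain ⟨x, hx2, hx1⟩ := hT.exists_notMem hH
  obtain ⟨y, hy, hyT⟩ : ∃ y ∈ E1, y ∉ Mid E1 U1 := SetLike.not_le_iff_exists.1 fun hle => by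
    have := Subgroup.card_le_of_le hle
    rw [h1.card_Mid hH] at this
    exact absurd this (not_le.2 (lt_mul_of_one_lt_left Nat.card_pos hp.out.one_lt))
  set z := cm v y with hz
  have hzI : z ∈ I1 := h1.commU v hv y
  have hz1 : z ≠ 1 := fun h => hyT (mem_Mid.2 ⟨hy, hgen (cm_eq_one_iff.1 h)⟩)
  have hcen : ∀ {a : X}, ∀ b : X, Commute (cm v a) b := fun {a} b =>
    omegaX_commute (h1.central (h1.commU v hv a)) b
  have hadd : ∀ a b : X, cm v (a * b) = cm v a * cm v b := fun a b => by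
    rw [cm_mul_right, mul_assoc b⁻¹, (hcen b).eq, inv_mul_cancel_left, (hcen (cm v a)).eq]
  have hpw : ∀ (a : X) (n : ℤ), cm v (a ^ n) = cm v a ^ n := fun a n => cm_pow_right (hcen a) n
  obtain ⟨j, hj⟩ : ∃ j : ℤ, cm v x = z ^ j := by
    have heq : zpowers z = I1 := Subgroup.eq_of_le_of_card_ge (Subgroup.zpowers_le.2 hzI) (by
      rw [h1.cardI, Nat.card_zpowers, orderOf_eq_prime (h1.expD z (h1.UD (h1.IU hzI))) hz1])
    obtain ⟨j, hj⟩ := mem_zpowers_iff.1 (heq.ge (h1.commU v hv x))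
    exact ⟨j, hj.symm⟩
  have hMc : ∀ {m : X}, m ∈ Mid E1 U1 → cm v m = 1 := fun hm =>
    cm_eq_one_iff.2 ((mem_Mid.1 hm).2 v hv)
  set w := x * y ^ (-j) with hw
  have hwc : Commute v w := cm_eq_one_iff.1 (by
    rw [hw, hadd, hpw, hj, ← hz, ← zpow_add, add_neg_cancel, zpow_zero])
  -- apply the inversion
  have hfix := h1.map
  let f : X →* X := MonoidHom.mk' θ1 fun a b => hfix.map_mul (Subgroup.mem_top a) (Subgroup.mem_top b)
  obtain ⟨i, hi, hθv⟩ : ∃ i ∈ I1, θ1 v = v⁻¹ * i :=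
    ⟨_, h1.invU v hv, (inv_mul_cancel_left _ _).symm⟩
  have hθc : Commute v (θ1 w) := by
    have h3 : Commute (θ1 v) (θ1 w) := hwc.map f
    have h4 : Commute (θ1 v * i⁻¹) (θ1 w) :=
      h3.mul_left (omegaX_commute (h1.central hi) _).inv_left
    rw [hθv, mul_inv_cancel_right] at h4
    simpa using h4.inv_left
  have hθx : x⁻¹ * θ1 x ∈ Mid E1 U1 := by
    rw [hMT]
    exact ⟨h1.coset x, E2.mul_mem (E2.inv_mem hx2) (hinv2 θ1 hfix x hx2)⟩
  have hθy : y * θ1 y ∈ Mid E1 U1 := h1.K_le_Mid (h1.inv y hy)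
  have e1 : cm v (θ1 x) = z ^ j := by
    rw [show θ1 x = x * (x⁻¹ * θ1 x) from (mul_inv_cancel_left _ _).symm, hadd, hMc hθx, mul_one, hj]
  have e2 : cm v (θ1 y) = z⁻¹ := by
    rw [show θ1 y = y⁻¹ * (y * θ1 y) from (inv_mul_cancel_left _ _).symm, hadd, hMc hθy, mul_one,
      ← zpow_neg_one, hpw, ← hz, zpow_neg_one]
  have e3 : z ^ j * z ^ j = 1 := by
    have h4 : θ1 w = θ1 x * θ1 y ^ (-j) := by
      show f w = f x * f y ^ (-j)
      rw [hw, map_mul, map_zpow]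
    have h3 := cm_eq_one_iff.2 hθc
    rwa [h4, hadd, hpw, e1, e2, inv_zpow', neg_neg] at h3
  have hxc : Commute v x := cm_eq_one_iff.1 (by
    have h5 : z ^ j ∈ (⊥ : Subgroup X) := mem_of_sq hH.odd (Subgroup.mem_bot.2 (by rw [pow_two]; exact e3))
      (Subgroup.mem_bot.2 (h1.expD _ (h1.UD (h1.IU (zpow_mem hzI j)))))
    rw [hj]; exact Subgroup.mem_bot.1 h5)
  refine ⟨hMT.symm, hvE2, fun u hu e he => ?_⟩
  obtain ⟨t, ht, n, rfl⟩ := (hT.symm hH).decomp_inf hH hx2 hx1 he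
  have ht' : t ∈ Mid E1 U1 := hMT ▸ (⟨ht.2, ht.1⟩ : t ∈ E1 ⊓ E2)
  exact ((mem_Mid.1 ht').2 u hu).mul_right ((hgen hxc u hu).zpow_right n)

theorem elem_U : Elem p U1 := by
  obtain ⟨v, hv, -, hgen⟩ := h1.exists_v
  exact ⟨fun a ha b hb => hgen (hgen (Commute.refl v) b hb).symm a ha,
    fun a ha => h1.expD a (h1.UD ha)⟩

/-- Exactly one centraliser inside the intersection. -/
theorem mixed_false (hK : K1 ≤ E2) (hK2 : ¬ K2 ≤ E1) : False := by
  haveI := h1.normE
  haveI := h2.normI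
  obtain ⟨hT, hUE, hUc⟩ := central_of_le hH h1 h2 hne hinv1 hinv2 hK
  obtain ⟨a, ha, b, hb, hab⟩ := h2.not_ab hH (elem_U hH h1 h2 hne hinv1 hinv2) hUE hUc h1.cardU
  obtain ⟨hc, -, k, hk, hKk⟩ := h2.central_K hH ha hb hab
  have hΩ : omegaX p X ≤ E1 := (h1.omega_le hH).trans h1.leK
  have hkE : k ∉ E1 := fun h => hK2 (hKk.trans (sup_le (h2.central.trans hΩ) (Subgroup.zpowers_le.2 h)))
  let f : X →* X := MonoidHom.mk' θ1 fun a b => h1.map.map_mul (Subgroup.mem_top a) (Subgroup.mem_top b)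
  -- the centre of the second subgroup is preserved
  have hθk : θ1 k ∈ K2 := by
    refine (h2.memK _).2 ⟨hinv2 θ1 h1.map k (h2.leK hk), fun d hd => ?_⟩
    obtain ⟨⟨d', hd'⟩, hde⟩ := Finite.surjective_of_injective
      (f := fun v : E2 => (⟨θ1 v, hinv2 θ1 h1.map v v.2⟩ : E2))
      (fun a b h => Subtype.ext (h1.map.inj (Subgroup.mem_top _) (Subgroup.mem_top _)
        (congrArg Subtype.val h))) ⟨d, h2.leE hd⟩
    rw [show d = f d' from (congrArg Subtype.val hde).symm]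
    exact (hc k hk d' hd').map f
  obtain ⟨i, hi, v, hv, hve⟩ := Subgroup.mem_sup_of_normal_left.1 (hKk hθk)
  obtain ⟨a', rfl⟩ := mem_zpowers_iff.1 hv
  have hiE : i ∈ E1 := hΩ (h2.central hi)
  have hdvd : (p : ℤ) ∣ a' - 1 := by
    by_contra hnd
    refine hkE (mem_of_zpow hnd ?_ ?_)
    · have h3 := h1.coset k
      rw [← hve] at h3
      have h4 := mul_mem h3 (inv_mem hiE)
      rw [show k⁻¹ * (i * k ^ a') * i⁻¹ = k⁻¹ * k ^ a' by
        rw [(omegaX_commute (h2.central hi) (k ^ a')).eq]; group] at h4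
      rwa [show k⁻¹ * k ^ a' = k ^ (a' - 1) by group] at h4
    · have h3 := Subgroup.pow_index_mem E1 k
      rwa [index_p hH h1.ess] at h3
  obtain ⟨u, hu, huI, -⟩ := h1.exists_v
  haveI : (omegaX p X).Normal := normal_of_central le_rfl
  obtain ⟨i2, hi2, w, hw, hue⟩ := Subgroup.mem_sup_of_normal_left.1
    (hKk ((h2.memK u).2 ⟨hUE hu, fun d hd => hUc u hu d (h2.leE hd)⟩))
  obtain ⟨n, rfl⟩ := mem_zpowers_iff.1 hw
  -- compare the action on the bottom
  set π := QuotientGroup.mk' (omegaX p X) with hπ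
  haveI : (omegaX p X).Normal := normal_of_central le_rfl
  have hπ1 : ∀ c ∈ omegaX p X, π c = 1 := fun c hc => (QuotientGroup.eq_one_iff c).2 hc
  have e1 : π u = π k ^ n := by rw [← hue, map_mul, hπ1 _ (h2.central hi2), one_mul, map_zpow]
  have e2 : π (θ1 u) = π k ^ (a' * n) := by
    rw [show θ1 u = f u from rfl, ← hue, map_mul f, map_mul π, show f i2 = i2 from h1.fix _ (h2.central hi2),
      hπ1 _ (h2.central hi2), one_mul, map_zpow f, show f k = θ1 k from rfl, ← hve, map_zpow π, map_mul π,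
      hπ1 _ (h2.central hi), one_mul, map_zpow π, ← zpow_mul]
  obtain ⟨m, hm⟩ := hdvd
  have e3 : π u * π (θ1 u) = 1 := by rw [← map_mul]; exact hπ1 _ (h1.central (h1.invU u hu))
  have e4 : π u ^ p = 1 := by rw [← map_pow, h1.expD u (h1.UD hu), map_one]
  rw [e1, ← zpow_natCast, ← zpow_mul] at e4
  rw [e1, e2, ← zpow_add, show n + a' * n = n * 2 + n * p * m by
    rw [show a' = p * m + 1 by omega]; ring, zpow_add, zpow_mul _ (n * p) m, e4, one_zpow, mul_one,
    zpow_mul] at e3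
  have hu2 : u ^ 2 ∈ omegaX p X := by
    rw [← QuotientGroup.eq_one_iff]
    show π (u ^ 2) = 1
    rw [map_pow, e1, ← zpow_natCast]; exact_mod_cast e3
  have huΩ := mem_of_sq hH.odd hu2 (by rw [h1.expD u (h1.UD hu)]; exact one_mem _)
  exact huI (h1.dual u (h1.UD hu) fun e _ => omegaX_commute huΩ e)

set_option maxHeartbeats 800000 in
/-- Both centralisers inside the intersection. -/
theorem both_false (hK : K1 ≤ E2) (hK2 : K2 ≤ E1) : False := by
  have hT : Two p F E2 E1 := ⟨h2.ess, h1.ess, hne, h2.normE, h1.normE⟩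
  haveI := h1.normE
  haveI := h2.normE
  haveI := h1.normI
  obtain ⟨hTeq, hUE, hUc⟩ := central_of_le hH h1 h2 hne hinv1 hinv2 hK
  obtain ⟨-, hUE', hUc'⟩ := central_of_le hH h2 h1 hne.symm hinv2 hinv1 hK2
  obtain ⟨a, ha, b, hb, hab⟩ := h2.not_ab hH (elem_U hH h1 h2 hne hinv1 hinv2) hUE hUc h1.cardU
  obtain ⟨-, hE2c, -⟩ := h2.central_K hH ha hb hab
  obtain ⟨a', ha', b', hb', hab'⟩ :=
    h1.not_ab hH (elem_U hH h2 h1 hne.symm hinv2 hinv1) hUE' hUc' h2.cardU
  obtain ⟨hK1c, -, k, hk, hKk⟩ := h1.central_K hH ha' hb' hab'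
  obtain ⟨x, hx2, hx1⟩ := hT.exists_notMem hH
  obtain ⟨y, hy1, hy2⟩ := (hT.symm hH).exists_notMem hH
  haveI : (omegaX p X).Normal := normal_of_central le_rfl
  set π := QuotientGroup.mk' (omegaX p X) with hπ
  have hπ1 : ∀ c ∈ omegaX p X, π c = 1 := fun c hc => (QuotientGroup.eq_one_iff c).2 hc
  obtain ⟨v, hv, hvI, -⟩ := h1.exists_v
  have hgenT : K1 ⊔ zpowers v = E1 ⊓ E2 := by
    rw [hTeq]
    refine Subgroup.eq_of_le_of_card_ge (sup_le h1.K_le_Mid (Subgroup.zpowers_le.2 ?_)) ?_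
    · rw [← hTeq]; exact ⟨h1.leE (h1.UD hv), hUE hv⟩
    · rw [h1.card_Mid_K hH]
      refine mul_card_le_sup hH.grp fun hvK => hvI (h1.dual v (h1.UD hv) fun e he => hK1c v hvK e he)
  have hTX : ∀ t ∈ E1 ⊓ E2, ∀ g : X, Commute (π t) (π g) := by
    intro t ht g
    refine cm_eq_one_iff.1 ?_
    rw [← map_cm π]
    refine hπ1 _ ?_
    suffices hle : E1 ⊓ E2 ≤ kerI (⊤ : Subgroup X) ⊤ (omegaX p X) from (hle ht).2 g (Subgroup.mem_top g)
    rw [← hgenT]
    refine sup_le (fun c hc => ⟨Subgroup.mem_top c, fun g _ => ?_⟩)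
      (Subgroup.zpowers_le.2 ⟨Subgroup.mem_top v, fun g _ => h1.central (h1.commU v hv g)⟩)
    have h3 : E1 ⊔ zpowers x ≤ cmInto c (omegaX p X) := sup_le
      (fun e he => by
        show cm c e ∈ omegaX p X
        rw [cm_eq_one_iff.2 (hK1c c hc e he)]; exact one_mem _)
      (Subgroup.zpowers_le.2 (h2.central (hE2c c (hK hc) x hx2)))
    exact h3 ((sup_eq_top hH h1.ess hx1).ge (Subgroup.mem_top g))
  let f : X →* X := MonoidHom.mk' θ1 fun a b => h1.map.map_mul (Subgroup.mem_top a) (Subgroup.mem_top b)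
  set t := cm y x with ht
  have htT : t ∈ E1 ⊓ E2 := ⟨h1.cm_mem_E hH y x, h2.cm_mem_E hH y x⟩
  -- `θ1` inverts `t` modulo the centre
  have hθt : π t * π (θ1 t) = 1 := by
    obtain ⟨e, heT, hex⟩ : ∃ e ∈ E1 ⊓ E2, θ1 x = x * e :=
      ⟨x⁻¹ * θ1 x, ⟨h1.coset x, E2.mul_mem (E2.inv_mem hx2) (hinv2 θ1 h1.map x hx2)⟩,
        (mul_inv_cancel_left _ _).symm⟩
    obtain ⟨c, hcT, hcy⟩ : ∃ c ∈ E1 ⊓ E2, θ1 y = y⁻¹ * c :=
      ⟨y * θ1 y, ⟨h1.leK (h1.inv y hy1), hK (h1.inv y hy1)⟩, (inv_mul_cancel_left _ _).symm⟩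
    have e1 : π (θ1 t) = cm (π (θ1 y)) (π (θ1 x)) := by
      rw [ht, show θ1 (cm y x) = f (cm y x) from rfl, map_cm f, map_cm π]; rfl
    rw [e1, hex, hcy, map_mul, map_mul, cm_mul_right,
      cm_eq_one_iff.2 (show Commute (π y⁻¹ * π c) (π e) by rw [← map_mul]; exact (hTX e heT (y⁻¹ * c)).symm),
      one_mul, cm_mul_left, cm_eq_one_iff.2 (hTX c hcT x), mul_one]
    have ht' : Commute (π t) (π y) := hTX t htT y
    have h4 : cm (π y⁻¹) (π x) = (π t)⁻¹ := by
      rw [map_inv, show cm (π y)⁻¹ (π x) = π y * (cm (π y) (π x))⁻¹ * (π y)⁻¹ by rw [cm_def, cm_def]; group,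
        ← map_cm π, ← ht, ← ht'.inv_left.eq, mul_inv_cancel_right]
    rw [h4, mul_assoc (π c)⁻¹, ((hTX t htT c).inv_left).eq, inv_mul_cancel_left, mul_assoc (π e)⁻¹,
      ((hTX t htT e).inv_left).eq, inv_mul_cancel_left, mul_inv_cancel]
  -- the automorphism on the centre of `E1`
  haveI hK1n := h1.normK
  set A := phi p K1 ⊔ I1 with hA
  haveI : (phi p K1).Normal := phi_normal
  have hIK : I1 ≤ K1 := h1.central.trans (h1.omega_le hH)
  have hAK : A ≤ K1 := sup_le phi_le hIK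
  have hAC : CI C1 A := by
    have hIC : CI C1 I1 := by
      refine ⟨hIK.trans h1.leK, fun σ hσ c hc => ?_⟩
      obtain ⟨d, hd, e, he, hne'⟩ : ∃ d ∈ D1, ∃ e ∈ E1, ¬ Commute d e :=
        ⟨a', ha', b', h1.leE hb', hab'⟩
      have h3 : zpowers (cm d e) = I1 := Subgroup.eq_of_le_of_card_ge
        (Subgroup.zpowers_le.2 (h1.commD d hd e he)) (by
          rw [h1.cardI, Nat.card_zpowers, orderOf_eq_prime (h1.expD _ (h1.UD (h1.IU (h1.commD d hd e he))))
            fun h' => hne' (cm_eq_one_iff.1 h')])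
      obtain ⟨n, rfl⟩ := mem_zpowers_iff.1 (h3.ge hc)
      rw [af_zpow σ (h1.cm_mem_E hH d e), af_cm σ (h1.leE hd) he]
      exact zpow_mem ((h1.central_K hH ha' hb' hab').2.1 _ (autFun_mem σ (h1.leE hd)) _ (autFun_mem σ he)) n
    refine CI.sup ⟨phi_le.trans h1.leK, fun σ hσ c hc => ?_⟩ hIC
    have hle : phi p K1 ≤ E1 := phi_le.trans h1.leK
    induction hc using Subgroup.closure_induction with
    | mem c hc =>
      rcases hc with ⟨u, hu, rfl⟩ | ⟨u, hu, w, hw, rfl⟩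
      · show autFun σ (u ^ p) ∈ _
        rw [af_pow σ (h1.leK hu)]
        exact pow_mem_phi (h1.ciK.2 σ hσ u hu)
      · rw [af_cm σ (h1.leK hu) (h1.leK hw)]
        exact cm_mem_phi (h1.ciK.2 σ hσ u hu) (h1.ciK.2 σ hσ w hw)
    | one => rw [af_one']; exact one_mem _
    | mul c d hc hd ihc ihd => rw [af_mul σ (hle hc) (hle hd)]; exact mul_mem ihc ihd
    | inv c hc ih => rw [af_inv σ (hle hc)]; exact inv_mem ih
  have hidx : A.relIndex K1 ≤ p := by
    have h3 := relIndex_sup_zpowers_le (p := p) (B := A) (v := k) (Subgroup.mem_sup_left (pow_mem_phi hk))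
    rwa [show A ⊔ zpowers k = K1 from le_antisymm (sup_le hAK (Subgroup.zpowers_le.2 hk))
      (hKk.trans (sup_le_sup_right le_sup_right _))] at h3
  have hphi : A ≤ I1 ⊔ zpowers (k ^ p) := by
    refine sup_le (phi_le_iff.2 ⟨fun u hu => ?_, fun u hu w hw => ?_⟩) le_sup_left
    · obtain ⟨i, hi, w, hw, rfl⟩ := Subgroup.mem_sup_of_normal_left.1 (hKk hu)
      obtain ⟨n, rfl⟩ := mem_zpowers_iff.1 hw
      rw [(omegaX_commute (h1.central hi) _).mul_pow, ← zpow_natCast (k ^ n), ← zpow_mul, mul_comm, zpow_mul,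
        zpow_natCast]
      exact mul_mem (Subgroup.mem_sup_left (pow_mem hi p)) (Subgroup.mem_sup_right (zpow_mem (mem_zpowers _) n))
    · rw [cm_eq_one_iff.2 (hK1c u hu w (h1.leK hw))]; exact one_mem _
  obtain ⟨m, hm⟩ : ∃ m : ℤ, π (θ1 k) = π k ^ (1 + p * m) := by
    obtain ⟨i, hi, w, hw, hiw⟩ := Subgroup.mem_sup_of_normal_left.1
      (hphi (h1.layer A inferInstance hAC hAK hidx k hk))
    obtain ⟨m, rfl⟩ := mem_zpowers_iff.1 hw
    refine ⟨m, ?_⟩
    rw [show θ1 k = k * (k⁻¹ * θ1 k) from (mul_inv_cancel_left _ _).symm, ← hiw, map_mul, map_mul,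
      hπ1 _ (h1.central hi), one_mul, map_zpow, map_pow, zpow_add, zpow_one, zpow_mul, zpow_natCast]
  obtain ⟨c, hc, w, hw, hcw⟩ := Subgroup.mem_sup_of_normal_left.1 (hgenT.ge htT)
  obtain ⟨r, rfl⟩ := mem_zpowers_iff.1 hw
  obtain ⟨i, hi, w', hw', hcw'⟩ := Subgroup.mem_sup_of_normal_left.1 (hKk hc)
  obtain ⟨n, rfl⟩ := mem_zpowers_iff.1 hw'
  have e1 : π t = π k ^ n * π v ^ r := by
    rw [← hcw, ← hcw', map_mul, map_mul, hπ1 _ (h1.central hi), one_mul, map_zpow, map_zpow]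
  have ev : π (θ1 v) = (π v)⁻¹ :=
    eq_inv_of_mul_eq_one_right (by rw [← map_mul]; exact hπ1 _ (h1.central (h1.invU v hv)))
  have e2 : π (θ1 t) = π k ^ ((1 + p * m) * n) * (π v ^ r)⁻¹ := by
    rw [← hcw, ← hcw', show θ1 (i * k ^ n * v ^ r) = f (i * k ^ n * v ^ r) from rfl, map_mul f, map_mul f,
      map_mul π, map_mul π, show f i = i from h1.fix _ (h1.central hi), hπ1 _ (h1.central hi), one_mul,
      map_zpow f, map_zpow f, map_zpow π, map_zpow π, show π (f k) = π k ^ (1 + p * m) from hm,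
      show π (f v) = (π v)⁻¹ from ev, ← zpow_mul, inv_zpow]
  have hkv : Commute (π v ^ r) (π k ^ ((1 + p * m) * n)) :=
    ((hTX v (hgenT ▸ Subgroup.mem_sup_right (mem_zpowers v)) k).zpow_zpow _ _)
  rw [e1, e2, mul_assoc, ← mul_assoc (π v ^ r), hkv.eq, mul_inv_cancel_right, ← zpow_add,
    show n + (1 + p * m) * n = n * (2 + p * m) by ring, zpow_mul] at hθt
  have hkn : k ^ n ∈ omegaX p X := by
    rw [← QuotientGroup.eq_one_iff]
    show π (k ^ n) = 1
    rw [map_zpow]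
    obtain ⟨j, hj⟩ := IsPGroup.iff_orderOf.1 (hH.grp.to_quotient (omegaX p X)) (π k ^ n)
    have h3 := orderOf_dvd_iff_zpow_eq_one.2 hθt
    rw [hj, Nat.cast_pow] at h3
    rcases Nat.eq_zero_or_pos j with h0 | h0
    · exact orderOf_eq_one_iff.1 (by rw [hj, h0, pow_zero])
    · exfalso
      have h4 : (p : ℤ) ∣ 2 + p * m := dvd_trans (dvd_pow_self _ h0.ne') h3
      have h5 : (p : ℤ) ∣ 2 := (dvd_add_left (dvd_mul_right _ _)).1 h4
      have h6 : p ∣ 2 := by exact_mod_cast h5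
      exact hH.odd ((Nat.prime_dvd_prime_iff_eq hp.out Nat.prime_two).1 h6)
  haveI := h2.normK
  have hvK : v ∈ K2 := (h2.memK v).2 ⟨hUE hv, fun d hd => hUc v hv d (h2.leE hd)⟩
  have htK : t ∈ K2 := by
    rw [← hcw, ← hcw']
    exact mul_mem (mul_mem (h2.omega_le hH (h1.central hi)) (h2.omega_le hH hkn)) (zpow_mem hvK r)
  -- so all commutators lie in the second centraliser
  refine h2.moves fun e _ g => ?_
  set ρ := QuotientGroup.mk' K2 with hρ
  have hTc : ∀ t ∈ E1 ⊓ E2, ∀ g : X, cm t g ∈ K2 := fun t ht g =>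
    h2.omega_le hH ((QuotientGroup.eq_one_iff _).1 (by
      show π (cm t g) = 1
      rw [map_cm π]; exact cm_eq_one_iff.2 (hTX t ht g)))
  have hgen : ∀ g : X, g ∈ closure (((E1 ⊓ E2 : Subgroup X) : Set X) ∪ {x, y}) := by
    intro g
    obtain ⟨u, hu, j, rfl⟩ := decomp hH h1.ess hx1 g
    obtain ⟨t, ht, l, rfl⟩ := hT.decomp_inf hH hy1 hy2 hu
    exact mul_mem (mul_mem (Subgroup.subset_closure (Or.inl ht))
      (zpow_mem (Subgroup.subset_closure (by simp)) l)) (zpow_mem (Subgroup.subset_closure (by simp)) j)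
  refine mk_cm_eq_one_iff.1 ?_
  have hmem : ∀ g : X, ρ g ∈ closure (ρ '' (((E1 ⊓ E2 : Subgroup X) : Set X) ∪ {x, y})) := fun g => by
    rw [← MonoidHom.map_closure]; exact Subgroup.mem_map_of_mem _ (hgen g)
  refine cm_eq_one_iff.1 (Subgroup.mem_bot.1 (cm_closure_mem (N := (⊥ : Subgroup (X ⧸ K2)))
    (fun n hn a _ => by rw [Subgroup.mem_bot.1 hn]; exact Commute.one_left a) ?_ _ (hmem e) _ (hmem g)))
  rintro _ ⟨a, ha, rfl⟩ _ ⟨b, hb, rfl⟩
  rw [← map_cm ρ, Subgroup.mem_bot]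
  refine (QuotientGroup.eq_one_iff _).2 ?_
  rcases ha with ha | rfl | rfl <;> rcases hb with hb | rfl | rfl
  all_goals first
    | exact hTc _ ha _
    | (rw [cm_swap]; exact inv_mem (hTc _ hb _))
    | (rw [cm_self]; exact one_mem _)
    | exact htK
    | (rw [cm_swap]; exact inv_mem htK)

end

end Cfsg.Agent.Fusion.RankThree.Normal.Unmoved
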