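import Cfsg.Agent.Lib.Fusion.RankThree.Normal.Unmoved.Theta

/-!
The data attached to a normal essential subgroup fixing the elements of order `p` of the centre.
-/

set_option autoImplicit false
set_option linter.unusedSectionVars false
set_option linter.style.haveILetI false

namespace Cfsg.Agent.Fusion.RankThree.Normal.Unmoved

open Cfsg Cfsg.FusionSystem
open Cfsg.Agent.Fusion Cfsg.Agent.Fusion.Basic Cfsg.Agent.Fusion.Saturation
open Cfsg.Agent.Fusion.RankThree Cfsg.Agent.Fusion.RankThree.Normal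
open Subgroup (zpowers closure mem_zpowers mem_zpowers_iff normalizer)

variable {X : Type*} [Group X] [Finite X] {p : ℕ} [hp : Fact p.Prime] {F : FusionSystem (⊤ : Subgroup X)}
  {E : Subgroup X}

/-- The data. -/
structure Side (p : ℕ) (F : FusionSystem (⊤ : Subgroup X)) (E D I U K : Subgroup X)
    (C : Subgroup (MulAut E)) (θ : X → X) : Prop where
  ess : F.IsEssential p E
  normE : E.Normal
  normK : K.Normal
  normU : U.Normal
  normD : D.Normal
  leE : D ≤ E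
  expD : ∀ v ∈ D, v ^ p = 1
  cardD : Nat.card D = p ^ 3
  cardI : Nat.card I = p
  central : I ≤ omegaX p X
  IU : I ≤ U
  UD : U ≤ D
  cardU : Nat.card U = p ^ 2
  commU : ∀ u ∈ U, ∀ y : X, cm u y ∈ I
  commD : ∀ d ∈ D, ∀ e ∈ E, cm d e ∈ I
  dual : ∀ d ∈ D, (∀ e ∈ E, Commute d e) → d ∈ I
  memK : ∀ e, e ∈ K ↔ e ∈ E ∧ ∀ d ∈ D, Commute e d
  cardK : Nat.card E = p ^ 2 * Nat.card K
  cmK : ∀ a ∈ E, ∀ b ∈ E, cm a b ∈ K
  powK : ∀ a ∈ E, a ^ p ∈ K
  moves : ¬ ∀ e ∈ E, ∀ y : X, cm e y ∈ K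
  cle : C ≤ F.autGroup E
  ciK : CI C K
  irr : ∀ R, CI C R → K ≤ R → R = K ∨ R = E
  map : IsMap F (⊤ : Subgroup X) θ
  inv : ∀ e ∈ E, e * θ e ∈ K
  coset : ∀ v : X, v⁻¹ * θ v ∈ E
  fix : ∀ v ∈ omegaX p X, θ v = v
  invU : ∀ u ∈ U, u * θ u ∈ I
  layer : ∀ A : Subgroup X, A.Normal → CI C A → A ≤ K → A.relIndex K ≤ p → ∀ v ∈ K, v⁻¹ * θ v ∈ A

theorem exists_side (hH : Hyp p F) (hE : F.IsEssential p E) [hEn : E.Normal]
    (hZ : AInv F E (omegaX p X)) :
    ∃ D I U K : Subgroup X, ∃ C : Subgroup (MulAut E), ∃ θ : X → X, Side p F E D I U K C θ := by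
  obtain ⟨x, hx⟩ := SetLike.exists_not_mem_of_ne_top E
    (Alperin.essential_lt (hH.grp.to_subgroup ⊤) hH.sat hE).ne
  obtain ⟨g, hg, hgR⟩ := exists_conj hH hE hx
  obtain ⟨D, I, hC⟩ := exists_core hH hE hZ hx hg hgR
  obtain ⟨θ, σ, hσ, hθ, hθE, hinv, hcoset⟩ := hC.exists_theta hH hE hZ hx hg hgR
  haveI := hC.normalD
  haveI := normal_of_central hC.central
  set K := kerI E D ⊥ with hK
  haveI hKn : K.Normal := kerI_normal
  have hci : CI (pairC E x g) K := (ci_self hH hE hZ hx hg hgR).kerI hC.ciD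
    ⟨bot_le, fun s _ v hv => by rw [Subgroup.mem_bot.1 hv, af_one']; exact one_mem _⟩
  have hmemK : ∀ e, e ∈ K ↔ e ∈ E ∧ ∀ d ∈ D, Commute e d := fun e =>
    ⟨fun h => ⟨h.1, fun d hd => cm_eq_one_iff.1 (Subgroup.mem_bot.1 (h.2 d hd))⟩,
      fun h => ⟨h.1, fun d hd => Subgroup.mem_bot.2 (cm_eq_one_iff.2 (h.2 d hd))⟩⟩
  have hUD : kerI D ⊤ I ≤ D := fun v hv => hv.1
  have hZfix : ∀ v ∈ omegaX p X, θ v = v := fun v hv => by
    rw [hθE v (hZ.1 hv)]; exact plusC_fix hH hE hZ hx hg hgR hσ hv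
  refine ⟨D, I, kerI D ⊤ I, K, pairC E x g, θ, hE, hEn, hKn, kerI_normal, hC.normalD, hC.ciD.1, hC.exp,
    hC.cardD, hC.cardI, hC.central, fun v hv => ⟨hC.le hv, fun y _ => ?_⟩, hUD,
    hC.card_U hH hE hZ hx hg hgR, fun u hu y => hu.2 y (Subgroup.mem_top y),
    fun d hd e he => hC.comm_mem hH hE hZ hx hg hgR hd he, fun d hd h => hC.dual hH hE hZ hx hg hgR hd h,
    hmemK, hC.card_E hH hE hZ hx hg hgR, fun a ha b hb => hC.cm_self_mem hH hE hZ hx hg hgR ha hb,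
    fun a ha => hC.pow_p_mem hH hE hZ hx hg hgR ha,
    fun h => hC.not_cm_x hH hE hZ hx hg hgR fun e he => h e he x,
    pairC_le hH hE hZ hx hg hgR, hci, fun R hR hKR => hC.irr hH hE hZ hx hg hgR hR hKR, hθ, hinv, hcoset,
    hZfix, fun u hu => ?_, fun A hA hAC hAK hidx v hv => ?_⟩
  · rw [cm_eq_one_iff.2 (omegaX_commute (hC.central hv) y)]; exact one_mem _
  · -- the pairing
    have huE : u ∈ E := hC.ciD.1 hu.1
    have huD : θ u ∈ D := by
      rw [hθE u huE]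
      exact (ci_plus hH hE hZ hx hg hgR hC.ciD).2 σ hσ u hu.1
    refine hC.dual hH hE hZ hx hg hgR (mul_mem hu.1 huD) fun e he => cm_eq_one_iff.1 ?_
    have hue := hC.comm_mem hH hE hZ hx hg hgR hu.1 he
    have hθe : θ e ∈ E := by rw [hθE e he]; exact autFun_mem _ he
    have h1 : cm (θ u) (θ e) = cm u e := by
      rw [hθE u huE, hθE e he, ← af_cm σ huE he, plusC_fix hH hE hZ hx hg hgR hσ (hC.central hue)]
    have hk := hinv e he
    rw [show θ e = e⁻¹ * (e * θ e) from (inv_mul_cancel_left _ _).symm, cm_mul_right,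
      show cm (θ u) (e * θ e) = 1 from cm_eq_one_iff.2 ((hmemK _).1 hk |>.2 _ huD).symm, one_mul,
      mul_assoc _ (cm (θ u) e⁻¹) _,
      (omegaX_commute (hC.central (hC.comm_mem hH hE hZ hx hg hgR huD (inv_mem he))) _).eq,
      inv_mul_cancel_left] at h1
    have hc := omegaX_commute (hC.central (hC.comm_mem hH hE hZ hx hg hgR huD he))
    have h2 := cm_pow_right (a := θ u) (b := e) (hc e) (-1)
    rw [zpow_neg_one, zpow_neg_one, h1] at h2
    rw [cm_mul_left, h2, mul_assoc _ (cm (θ u) e)⁻¹, (hc _).inv_left.eq, inv_mul_cancel_left,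
      inv_mul_cancel]
  · rw [hθE v hv.1]
    haveI := hA
    exact step_plus hH hE hZ hx hg hgR hAC hci hAK hidx σ hσ v hv

end Cfsg.Agent.Fusion.RankThree.Normal.Unmoved
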