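import Cfsg.Agent.Lib.Fusion.RankThree.Normal.Unmoved.KU

/-!
An automorphism of the group inverting the essential subgroup modulo the centraliser.
-/

set_option autoImplicit false
set_option linter.unusedSectionVars false
set_option linter.style.haveILetI false

namespace Cfsg.Agent.Fusion.RankThree.Normal.Unmoved

open Cfsg Cfsg.FusionSystem
open Cfsg.Agent.Fusion Cfsg.Agent.Fusion.Basic Cfsg.Agent.Fusion.Saturation
open Cfsg.Agent.Fusion.RankThree Cfsg.Agent.Fusion.RankThree.Normal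
open Subgroup (zpowers closure mem_zpowers mem_zpowers_iff normalizer)

variable {X : Type*} [Group X] [Finite X] {p : ℕ} [hp : Fact p.Prime] {F : FusionSystem (⊤ : Subgroup X)}
  {E : Subgroup X}

/-- The pair group with the inner automorphisms. -/
noncomputable abbrev plusC (E : Subgroup X) (x : X) (g : MulAut E) : Subgroup (MulAut E) :=
  closure (({cA E x, g * cA E x * g⁻¹} : Set (MulAut E)) ∪ Inn E)

section

variable (hH : Hyp p F) (hE : F.IsEssential p E) [hEn : E.Normal] (hZ : AInv F E (omegaX p X))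
  {x : X} (hx : x ∉ E) {g : MulAut E} (hg : g ∈ F.autGroup E)
  (hgR : g * cA E x * g⁻¹ ∉ autInducedBy (⊤ : Subgroup X) E)
include hH hE hEn hZ hx hg hgR

theorem plusC_le : plusC E x g ≤ F.autGroup E :=
  (Subgroup.closure_le _).2 (by
    rintro σ (hσ | hσ)
    · exact pairC_le hH hE hZ hx hg hgR (Subgroup.subset_closure hσ)
    · exact inn_le_autGroup le_top hσ)

theorem ci_plus {U : Subgroup X} [hU : U.Normal] (h : CI (pairC E x g) U) : CI (plusC E x g) U := by
  refine ⟨h.1, fun σ hσ => ?_⟩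
  have : σ ∈ preserve E U := by
    refine (Subgroup.closure_le _).2 ?_ hσ
    rintro τ (hτ | hτ)
    · exact mem_preserve_of (h.2 τ (Subgroup.subset_closure hτ))
    · obtain ⟨n, -, hne⟩ := mem_inn_iff.1 hτ
      exact mem_preserve_of fun v hv => by rw [hne v (h.1 hv), cj_apply]; exact hU.conj_mem v hv n
  exact fun v hv => af_mem_preserve this hv

theorem plusC_fix {σ : MulAut E} (hσ : σ ∈ plusC E x g) {v : X} (hv : v ∈ omegaX p X) :
    autFun σ v = v := by
  induction hσ using Subgroup.closure_induction generalizing v with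
  | mem σ hσ =>
    rcases hσ with hσ | hσ
    · exact pairC_fix hH hE hZ hx hg hgR (Subgroup.subset_closure hσ) hv
    · obtain ⟨n, -, hne⟩ := mem_inn_iff.1 hσ
      rw [hne v (hZ.1 hv), cj_apply, (omegaX_commute hv n).symm.eq, mul_inv_cancel_right]
  | one => rw [autFun_one]; rfl
  | mul a b _ _ iha ihb => rw [autFun_mul, ihb hv, iha hv]
  | inv a _ iha => conv_lhs => rw [← iha hv, autFun_inv_apply]

/-- Steps of index at most `p` of normal invariant series. -/
theorem step_plus {A Y : Subgroup X} [A.Normal] [Y.Normal] (hA : CI (pairC E x g) A)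
    (hY : CI (pairC E x g) Y) (hAY : A ≤ Y) (hidx : A.relIndex Y ≤ p) :
    ∀ σ ∈ plusC E x g, ∀ v ∈ Y, v⁻¹ * autFun σ v ∈ A := by
  intro σ hσ v hv
  have hA' := ci_plus hH hE hZ hx hg hgR hA
  have hY' := ci_plus hH hE hZ hx hg hgR hY
  refine stab_closure (E := E) (C := fun i => if i = 0 then A else Y) (n := 1) (fun i hi => ?_)
    (fun i _ => ?_) (fun a ha i hi w hw => ?_) σ hσ 0 one_pos v hv
  · obtain rfl : i = 0 := by omega
    exact hAY
  · split_ifs
    exacts [hA.1, hY.1]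
  · obtain rfl : i = 0 := by omega
    obtain ⟨k, hk⟩ : ∃ k : ℕ, a ^ p ^ k = 1 := by
      rcases ha with ha | ha
      · exact exists_pow_gen hH hE hZ hx hg hgR ha
      · obtain ⟨k, hk⟩ := ((hH.grp.to_subgroup E).of_surjective _
          (MulAut.conj : E →* MulAut E).rangeRestrict_surjective) ⟨a, ha⟩
        exact ⟨k, congrArg Subtype.val hk⟩
    exact step hA.1 hY.1 hidx (hA'.2 a (Subgroup.subset_closure ha)) (hY'.2 a (Subgroup.subset_closure ha))
      hk w hw

variable {D I : Subgroup X} (hC : Core p (pairC E x g) D I)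
include hC

theorem Core.exists_inv_pair :
    ∃ τ ∈ pairC E x g, ∀ e ∈ E, e * autFun τ e ∈ kerI E D ⊥ := by
  haveI := hC.normalD
  have hαC : cA E x ∈ pairC E x g := Subgroup.subset_closure (Or.inl rfl)
  have hβC : g * cA E x * g⁻¹ ∈ pairC E x g := Subgroup.subset_closure (Or.inr rfl)
  obtain ⟨k, hk⟩ := exists_pow_cA hH hE x
  have hk' : (g * cA E x * g⁻¹) ^ p ^ k = 1 := by rw [conj_pow, hk, mul_one, mul_inv_cancel]
  have hsub : pairC E x g ≤ preserve E D := fun s hs => mem_preserve_of (hC.ciD.2 s hs)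
  let ρ : pairC E x g →* MulAut D := (restr hC.ciD.1).comp (Subgroup.inclusion hsub)
  have hρ : ∀ (s : pairC E x g), ∀ v ∈ D, autFun (ρ s) v = autFun (s : MulAut E) v := fun s v hv =>
    restr_apply hC.ciD.1 _ hv
  set a' : pairC E x g := ⟨_, hαC⟩
  set b' : pairC E x g := ⟨_, hβC⟩
  have hgen : closure ({a', b'} : Set (pairC E x g)) = ⊤ := by
    refine Subgroup.map_injective (pairC E x g).subtype_injective ?_
    rw [MonoidHom.map_closure, Set.image_pair, ← MonoidHom.range_eq_map, Subgroup.range_subtype]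
    rfl
  have hcl : closure ({ρ a', ρ b'} : Set (MulAut D)) = ρ.range := by
    rw [← Set.image_pair, ← MonoidHom.map_closure, hgen, ← MonoidHom.range_eq_map]
  have hI : ∀ v ∈ I, ∀ s : pairC E x g, autFun (ρ s) v = v := fun v hv s => by
    rw [hρ s v (hC.le hv)]; exact hC.fix hH hE hZ hx hg hgR s.2 hv
  obtain ⟨w, hw, hwv⟩ := exists_inversion_section (N := I) (E := D) hC.le le_rfl
    (fun a ha b hb => hC.comm_mem hH hE hZ hx hg hgR ha (hC.ciD.1 hb))
    (fun a ha => by rw [hC.exp a ha]; exact one_mem _) (by rw [hC.cardD, hC.cardI]; ring)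
    (a := ρ a') (b := ρ b') (k := k) (l := k)
    (fun v hv => by rw [hI v hv]; exact hv) (fun v hv => by rw [hI v hv]; exact hv)
    (fun v hv => autFun_mem _ hv) (fun v hv => autFun_mem _ hv)
    (by rw [← map_pow, show a' ^ p ^ k = 1 from Subtype.ext hk, map_one])
    (by rw [← map_pow, show b' ^ p ^ k = 1 from Subtype.ext hk', map_one])
    (fun σ hσ h => by
      rw [hcl] at hσ
      obtain ⟨s, rfl⟩ := hσ
      obtain ⟨j, hj⟩ := isPGroup_stab2 hH.grp hC.le (s := {ρ s})
        (fun c hc v hv => by rw [Set.mem_singleton_iff.1 hc]; exact hI v hv s)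
        (fun c hc v hv => by rw [Set.mem_singleton_iff.1 hc]; exact h v hv)
        ⟨ρ s, Subgroup.subset_closure rfl⟩
      exact ⟨j, congrArg Subtype.val hj⟩)
    (fun hp' => hC.det fun σ hσ => by
      rw [hcl] at hp'
      obtain ⟨j, hj⟩ := hp' ⟨ρ ⟨σ, hσ⟩, ⟨σ, hσ⟩, rfl⟩
      refine ⟨j, fun v hv => ?_⟩
      have h1 := hρ (⟨σ, hσ⟩ ^ p ^ j) v hv
      rw [map_pow, show ρ ⟨σ, hσ⟩ ^ p ^ j = 1 from congrArg Subtype.val hj, autFun_one] at h1
      exact h1.symm)
  rw [hcl] at hw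
  obtain ⟨τ, rfl⟩ := hw
  refine ⟨τ, τ.2, fun e he => ⟨mul_mem he (autFun_mem _ he), fun d hd => Subgroup.mem_bot.2 ?_⟩⟩
  set t := autFun (τ : MulAut E) e with ht
  have htE : t ∈ E := autFun_mem _ he
  obtain ⟨i, hi, hid⟩ : ∃ i ∈ I, autFun (τ : MulAut E) d = d⁻¹ * i := by
    refine ⟨d * autFun (τ : MulAut E) d, ?_, (inv_mul_cancel_left _ _).symm⟩
    have := hwv d hd
    rwa [hρ τ d hd] at this
  have hde := hC.comm_mem hH hE hZ hx hg hgR hd he
  have h1 : cm (d⁻¹ * i) t = cm d e := by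
    rw [← hid, ht, ← af_cm _ (hC.ciD.1 hd) he, hC.fix hH hE hZ hx hg hgR τ.2 hde]
  have hdt := omegaX_commute (hC.central (hC.comm_mem hH hE hZ hx hg hgR hd htE))
  rw [cm_mul_left, cm_eq_one_iff.2 (omegaX_commute (hC.central hi) t), mul_one] at h1
  have h2 := cm_pow_left (a := d) (b := t) (hdt d) (-1)
  rw [zpow_neg_one, zpow_neg_one] at h2
  rw [h2, mul_assoc _ (cm d t)⁻¹, ((hdt i).inv_left).eq, inv_mul_cancel_left] at h1
  rw [cm_swap, inv_eq_one, cm_mul_right, ← h1, mul_assoc t⁻¹, (hdt t).inv_left.eq, inv_mul_cancel_left,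
    mul_inv_cancel]

set_option maxHeartbeats 800000 in
/-- The extended inversion. -/
theorem Core.exists_theta :
    ∃ θ : X → X, ∃ σ ∈ plusC E x g, IsMap F (⊤ : Subgroup X) θ ∧ (∀ v ∈ E, θ v = autFun σ v) ∧
      (∀ e ∈ E, e * θ e ∈ kerI E D ⊥) ∧ ∀ v : X, v⁻¹ * θ v ∈ E := by
  haveI := hC.normalD
  set K := kerI E D ⊥ with hK
  haveI hKn : K.Normal := kerI_normal
  set G := plusC E x g with hG
  have hGA := plusC_le hH hE hZ hx hg hgR
  have hKci : CI (pairC E x g) K := (ci_self hH hE hZ hx hg hgR).kerI hC.ciD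
    ⟨bot_le, fun s _ v hv => by rw [Subgroup.mem_bot.1 hv, af_one']; exact one_mem _⟩
  have hKG := ci_plus hH hE hZ hx hg hgR hKci
  have hEE : ∀ e ∈ E, ∀ f ∈ E, cm e f ∈ K := fun e he f hf => hC.cm_self_mem hH hE hZ hx hg hgR he hf
  -- automorphisms trivial modulo `K`
  let Kn : Subgroup G :=
    { carrier := {s | ∀ e ∈ E, e⁻¹ * autFun (s : MulAut E) e ∈ K}
      one_mem' := fun e _ => by rw [Subgroup.coe_one, autFun_one, id, inv_mul_cancel]; exact one_mem _
      mul_mem' := fun {s t} hs ht e he => by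
        rw [Subgroup.coe_mul, autFun_mul]
        have h1 := hs _ (autFun_mem (t : MulAut E) he)
        simpa [mul_assoc] using mul_mem (ht e he) h1
      inv_mem' := fun {s} hs e he => by
        have h1 := hs _ (autFun_mem (s : MulAut E)⁻¹ he)
        rw [autFun_apply_inv] at h1
        simpa using inv_mem h1 }
  have hKnmem : ∀ s : G, s ∈ Kn ↔ ∀ e ∈ E, e⁻¹ * autFun (s : MulAut E) e ∈ K := fun s => Iff.rfl
  haveI hKnn : Kn.Normal := ⟨fun s hs c e he => by
    have h1 := hs _ (autFun_mem (c : MulAut E)⁻¹ he)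
    have h2 := hKG.2 _ c.2 _ h1
    rw [af_mul _ (inv_mem (autFun_mem _ he)) (autFun_mem _ (autFun_mem _ he)),
      af_inv _ (autFun_mem _ he), autFun_apply_inv] at h2
    simpa [autFun_mul] using h2⟩
  set InnG : Subgroup G := (Inn E).subgroupOf G with hInnG
  haveI hInn : InnG.Normal := by
    refine ⟨fun s hs c => ?_⟩
    have h1 := (Alperin.inn_normal F E).conj_mem ⟨(s : MulAut E), hGA s.2⟩ (Subgroup.mem_subgroupOf.2
      (Subgroup.mem_subgroupOf.1 hs)) ⟨(c : MulAut E), hGA c.2⟩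
    exact Subgroup.mem_subgroupOf.2 (by simpa using Subgroup.mem_subgroupOf.1 h1)
  have hInnKn : InnG ≤ Kn := fun s hs e he => by
    obtain ⟨n, hn, hne⟩ := mem_inn_iff.1 (Subgroup.mem_subgroupOf.1 hs)
    rw [hne e he, cj_apply]
    have h1 := hEE e he n⁻¹ (inv_mem hn)
    rwa [cm_def, inv_inv, mul_assoc (e⁻¹ * n), mul_assoc e⁻¹, ← mul_assoc n] at h1
  set α : G := ⟨cA E x, Subgroup.subset_closure (Or.inl (Or.inl rfl))⟩ with hαd
  -- the Sylow subgroup
  have hind : autInducedBy (⊤ : Subgroup X) E ≤ G :=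
    induced_le_of hH hE hx (fun s hs => Subgroup.subset_closure (Or.inr hs)) α.2
  have hpk : ∀ s ∈ Kn, (∃ j : ℕ, s ^ p ^ j = 1) → s ∈ InnG := by
    intro q hq ⟨j, hj⟩
    obtain ⟨R, hR⟩ := exists_sylow hH hE
    have hnd : ¬ p ∣ ((autInducedBy (⊤ : Subgroup X) E).subgroupOf G).index := by
      intro hd
      refine R.not_dvd_index (hd.trans ?_)
      rw [hR]
      exact Dvd.intro _ (Subgroup.relIndex_mul_relIndex _ _ _ hind hGA)
    set RG := (isPGroup_autInducedBy (hH.grp.to_subgroup ⊤)).comap_subtype (K := G) |>.toSylow hnd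
    obtain ⟨c, hc⟩ := exists_conj_le_sylow RG (A := zpowers q) (fun s => by
      obtain ⟨i, hi⟩ := mem_zpowers_iff.1 s.2
      refine ⟨j, Subtype.ext ?_⟩
      rw [SubgroupClass.coe_pow, ← hi, ← zpow_natCast, ← zpow_mul, mul_comm, zpow_mul, zpow_natCast, hj,
        one_zpow]; rfl)
    have h1 : c * q * c⁻¹ ∈ RG.1 := hc q (mem_zpowers q)
    have h2 := hKnn.conj_mem q hq c
    obtain ⟨y, hy⟩ := exists_of_induced (show ((c * q * c⁻¹ : G) : MulAut E) ∈
      autInducedBy (⊤ : Subgroup X) E from Subgroup.mem_subgroupOf.1 h1)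
    by_cases hyE : y ∈ E
    · have h3 : c * q * c⁻¹ ∈ InnG := Subgroup.mem_subgroupOf.2 (by rw [hy]; exact (cA_inn_iff hH hE).2 hyE)
      simpa [mul_assoc] using hInn.conj_mem _ h3 c⁻¹
    · exfalso
      refine hC.not_cm_x hH hE hZ hx hg hgR fun e he => ?_
      have hle : autInducedBy (⊤ : Subgroup X) E ≤ Kn.map G.subtype := by
        refine induced_le_of hH hE hyE (fun s hs => ?_) ⟨_, h2, hy⟩
        exact ⟨⟨s, Subgroup.subset_closure (Or.inr hs)⟩, hInnKn (Subgroup.mem_subgroupOf.2 hs), rfl⟩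
      obtain ⟨s, hs, hse⟩ := hle (cA_mem_induced x⁻¹)
      have h3 := hs e he
      rw [show (s : MulAut E) = cA E x⁻¹ from hse, cA_apply _ he, inv_inv] at h3
      rwa [cm_def, mul_assoc _ e, mul_assoc e⁻¹, ← mul_assoc x⁻¹]
  -- fixed point on the coset of inversions
  obtain ⟨τ, hτ, hτinv⟩ := hC.exists_inv_pair hH hE hZ hx hg hgR
  have hpG : pairC E x g ≤ G := Subgroup.closure_mono Set.subset_union_left
  set t : G := ⟨τ, hpG hτ⟩ with htd
  let InvK : G → Prop := fun s => ∀ e ∈ E, e * autFun (s : MulAut E) e ∈ K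
  have hab : ∀ {e f : X}, e ∈ E → f ∈ E → (e * f ∈ K ↔ f * e ∈ K) := fun he hf =>
    ⟨fun h => (inferInstance : K.Normal).mem_comm h, fun h => (inferInstance : K.Normal).mem_comm h⟩
  have hcoset : ∀ s : G, InvK s ↔ t⁻¹ * s ∈ Kn := by
    intro s
    constructor
    · intro hs e he
      have hse : autFun (s : MulAut E) e ∈ E := autFun_mem _ he
      have hτe : autFun τ e ∈ E := autFun_mem _ he
      have h1 : (autFun τ e)⁻¹ * autFun (s : MulAut E) e ∈ K := by
        have := mul_mem (inv_mem (hτinv e he)) (hs e he)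
        rwa [mul_inv_rev, mul_assoc, inv_mul_cancel_left] at this
      have h2 := hKG.2 _ (inv_mem t.2) _ h1
      rw [af_mul _ (inv_mem hτe) hse, af_inv _ hτe, show autFun (t : MulAut E)⁻¹ (autFun τ e) = e from
        autFun_inv_apply _ _] at h2
      rwa [Subgroup.coe_mul, Subgroup.coe_inv, autFun_mul]
    · intro hs e he
      have h1 := hKG.2 _ t.2 _ (hs e he)
      rw [Subgroup.coe_mul, Subgroup.coe_inv, autFun_mul, af_mul _ (inv_mem he)
        (autFun_mem _ (autFun_mem _ he)), af_inv _ he, autFun_apply_inv] at h1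
      have h2 := mul_mem (hτinv e he) h1
      rwa [mul_assoc, mul_inv_cancel_left] at h2
  let π := QuotientGroup.mk' InnG
  set Nb := Kn.map π with hNb
  have hndN : ¬ p ∣ Nat.card Nb := by
    intro hd
    obtain ⟨q', hq'⟩ := exists_prime_orderOf_dvd_card' p hd
    obtain ⟨q, hq, hqe⟩ := q'.2
    have hqp : q ^ p ∈ InnG := by
      rw [← QuotientGroup.eq_one_iff, ← QuotientGroup.mk'_apply, map_pow]
      change π q ^ p = 1
      rw [hqe, ← SubgroupClass.coe_pow, ← hq', pow_orderOf_eq_one]; rfl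
    obtain ⟨j, hj⟩ := (((hH.grp.to_subgroup E).of_surjective _
      (MulAut.conj : E →* MulAut E).rangeRestrict_surjective).comap_subtype (K := G)) ⟨q ^ p, hqp⟩
    have h1 := hpk q hq ⟨j + 1, by rw [pow_succ', pow_mul]; exact congrArg Subtype.val hj⟩
    have h2 : q' = 1 := Subtype.ext (hqe.symm.trans ((QuotientGroup.eq_one_iff q).2 h1))
    rw [h2, orderOf_one] at hq'
    exact hp.out.ne_one hq'.symm
  let S0 : Set (G ⧸ InnG) := {z | (π t)⁻¹ * z ∈ Nb}
  have hpiff : ∀ s : G, π s ∈ S0 ↔ InvK s := fun s => by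
    rw [hcoset, Set.mem_setOf_eq, ← map_inv, ← map_mul]
    refine ⟨fun h => ?_, fun h => Subgroup.mem_map_of_mem _ h⟩
    obtain ⟨u, hu, hue⟩ := h
    have h1 : u⁻¹ * (t⁻¹ * s) ∈ InnG := QuotientGroup.eq.1 hue
    simpa using mul_mem hu (hInnKn h1)
  have hconjS : ∀ c : G, c = α ∨ c = α⁻¹ → ∀ s : G, InvK s → InvK (c * s * c⁻¹) := by
    intro c _ s hs e he
    have h1 := hs _ (autFun_mem (c : MulAut E)⁻¹ he)
    have h2 := hKG.2 _ c.2 _ h1
    rw [af_mul _ (autFun_mem _ he) (autFun_mem _ (autFun_mem _ he)), autFun_apply_inv] at h2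
    simpa [autFun_mul] using h2
  haveI : Fintype S0 := Fintype.ofFinite _
  have hcS : ¬ p ∣ Fintype.card S0 := by
    rw [← Nat.card_eq_fintype_card]
    have e : S0 ≃ Nb :=
      { toFun := fun z => ⟨(π t)⁻¹ * z, z.2⟩
        invFun := fun n => ⟨π t * n, by show (π t)⁻¹ * (π t * n) ∈ Nb; rw [inv_mul_cancel_left]; exact n.2⟩
        left_inv := fun z => Subtype.ext (mul_inv_cancel_left _ _)
        right_inv := fun n => Subtype.ext (inv_mul_cancel_left _ _) }
    rwa [Nat.card_congr e]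
  let P : Equiv.Perm (G ⧸ InnG) := (MulAut.conj (π α)).toEquiv
  have hP : ∀ z, z ∈ S0 ↔ P z ∈ S0 := by
    intro z
    obtain ⟨s, rfl⟩ := QuotientGroup.mk'_surjective InnG z
    show π s ∈ S0 ↔ π α * π s * (π α)⁻¹ ∈ S0
    rw [← map_inv, ← map_mul, ← map_mul, hpiff, hpiff]
    refine ⟨hconjS α (Or.inl rfl) s, fun h => ?_⟩
    simpa [mul_assoc] using hconjS α⁻¹ (Or.inr rfl) _ h
  obtain ⟨k, hk⟩ := exists_pow_cA hH hE x
  have hPk : P ^ p ^ k = 1 := by
    have hm : ∀ m : ℕ, ∀ z, (P ^ m) z = (MulAut.conj (π (α ^ m))) z := by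
      intro m
      induction m with
      | zero => intro z; simp
      | succ m ih =>
        intro z
        rw [pow_succ', Equiv.Perm.mul_apply, ih, pow_succ', map_mul, map_mul, MulAut.mul_apply]
        rfl
    refine Equiv.ext fun z => ?_
    rw [hm, show α ^ p ^ k = 1 from Subtype.ext hk, map_one, map_one]; rfl
  obtain ⟨⟨z, hzS⟩, hz⟩ := Equiv.Perm.exists_fixed_point_of_prime (p := p) (n := k) hcS
    (σ := P.subtypePerm fun z => (hP z).symm) (by rw [Equiv.Perm.subtypePerm_pow]; exact Equiv.ext fun z => Subtype.ext (by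
      show (P ^ p ^ k) z = z
      rw [hPk]; rfl))
  obtain ⟨s, rfl⟩ := QuotientGroup.mk'_surjective InnG z
  have hs := (hpiff s).1 hzS
  have hz' : π α * π s * (π α)⁻¹ = π s := congrArg Subtype.val hz
  -- conjugation of the outer element
  obtain ⟨y, hy⟩ : ∃ y, (s : MulAut E) * cA E x * (s : MulAut E)⁻¹ = cA E y := by
    have h1 : s * α * s⁻¹ * α⁻¹ ∈ InnG := by
      rw [← QuotientGroup.eq_one_iff]
      show π (s * α * s⁻¹ * α⁻¹) = 1
      rw [map_mul, map_mul, map_mul, map_inv, map_inv]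
      calc π s * π α * (π s)⁻¹ * (π α)⁻¹ = π s * (π α * π s * (π α)⁻¹)⁻¹ := by group
        _ = 1 := by rw [hz', mul_inv_cancel]
    obtain ⟨n, hn⟩ := exists_of_induced (inn_le_autInducedBy le_top (Subgroup.mem_subgroupOf.1 h1))
    refine ⟨n * x, ?_⟩
    rw [cA_mul, ← hn]
    simp [hαd]
  have hm' : IsMap F E (autFun (s : MulAut E)) := isMap_of_mem_autGroup le_top (hGA s.2)
  obtain ⟨f, hf, hfe⟩ := exists_extension (hH.grp.to_subgroup ⊤) hH.sat hm'
    (by rw [autFun_img]; exact fullyNormalized_fullyCentralized (hH.grp.to_subgroup ⊤) hH.sat hE.2.1)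
  have hαfun : ∀ v ∈ E, autFun (s : MulAut E) (x * v * x⁻¹) = y * autFun (s : MulAut E) v * y⁻¹ := fun v hv => by
    rw [← cA_apply x hv, ← cA_apply y (autFun_mem _ hv), ← hy, autFun_mul, autFun_mul, autFun_inv_apply]
  have hnS : nSub (⊤ : Subgroup X) E (autFun (s : MulAut E)) = ⊤ := top_le_iff.1 (by
    rw [← sup_eq_top hH hE hx]
    refine sup_le (fun u hu => mem_nSub.2 ⟨Subgroup.mem_sup_left hu, Subgroup.le_normalizer hu,
      autFun (s : MulAut E) u, Subgroup.mem_sup_left (autFun_mem _ hu), fun v hv => by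
        rw [af_mul _ (mul_mem hu hv) (inv_mem hu), af_mul _ hu hv, af_inv _ hu]⟩)
      (Subgroup.zpowers_le.2 (mem_nSub.2 ⟨Subgroup.mem_sup_right (mem_zpowers x),
        Subgroup.normalizer_eq_top (H := E) ▸ Subgroup.mem_top x, y,
        (sup_eq_top hH hE hx).ge (Subgroup.mem_top y), hαfun⟩)))
  rw [hnS] at hf
  refine ⟨f, s, s.2, hf, hfe, fun e he => by rw [hfe e he]; exact hs e he, fun v => ?_⟩
  -- trivial on the quotient
  have hx' : x⁻¹ * f x ∈ E := by
    have hxy : x⁻¹ * y ∈ E := by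
      have h1 : (s : MulAut E) * cA E x * (s : MulAut E)⁻¹ * (cA E x)⁻¹ ∈ Inn E := by
        have h0 : s * α * s⁻¹ * α⁻¹ ∈ InnG := by
          rw [← QuotientGroup.eq_one_iff]
          show π (s * α * s⁻¹ * α⁻¹) = 1
          rw [map_mul, map_mul, map_mul, map_inv, map_inv]
          calc π s * π α * (π s)⁻¹ * (π α)⁻¹ = π s * (π α * π s * (π α)⁻¹)⁻¹ := by group
            _ = 1 := by rw [hz', mul_inv_cancel]
        simpa [hαd] using Subgroup.mem_subgroupOf.1 h0
      rw [hy, show (cA E x)⁻¹ = cA E x⁻¹ by rw [cA_eq, cA_eq, map_inv], ← cA_mul, cA_inn_iff hH hE] at h1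
      exact hEn.mem_comm h1
    have hyf : y⁻¹ * f x ∈ E := centralizer_le hH hE fun v hv => by
      obtain ⟨u, hu, rfl⟩ : ∃ u ∈ E, autFun (s : MulAut E) u = v :=
        ⟨_, autFun_mem _ hv, autFun_apply_inv _ v⟩
      have h1 := hf.map_conj (Subgroup.mem_top x) (Subgroup.mem_top u)
      rw [hfe u hu, hfe _ (hEn.conj_mem u hu x), hαfun u hu] at h1
      set w := autFun (s : MulAut E) u
      show w * (y⁻¹ * f x) = y⁻¹ * f x * w
      calc w * (y⁻¹ * f x) = y⁻¹ * (y * w * y⁻¹) * f x := by group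
        _ = y⁻¹ * (f x * w * (f x)⁻¹) * f x := by rw [h1]
        _ = y⁻¹ * f x * w := by group
    simpa [mul_assoc] using mul_mem hxy hyf
  let T : Subgroup X :=
    { carrier := {v | v⁻¹ * f v ∈ E}
      one_mem' := by show (1 : X)⁻¹ * f 1 ∈ E; rw [hf.map_one, inv_one, one_mul]; exact one_mem _
      mul_mem' := fun {a b} ha hb => by
        show (a * b)⁻¹ * f (a * b) ∈ E
        rw [hf.map_mul (Subgroup.mem_top a) (Subgroup.mem_top b)]
        have h1 := mul_mem (hEn.conj_mem _ ha b⁻¹) hb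
        simpa [mul_assoc] using h1
      inv_mem' := fun {a} ha => by
        show a⁻¹⁻¹ * f a⁻¹ ∈ E
        rw [hf.map_inv (Subgroup.mem_top a)]
        have h1 := hEn.conj_mem _ (inv_mem ha) a
        simpa [mul_assoc] using h1 }
  have hT : E ⊔ zpowers x ≤ T := sup_le (fun u hu => by
    show u⁻¹ * f u ∈ E
    rw [hfe u hu]; exact mul_mem (inv_mem hu) (autFun_mem _ hu)) (Subgroup.zpowers_le.2 hx')
  exact hT ((sup_eq_top hH hE hx).ge (Subgroup.mem_top v))

end

end Cfsg.Agent.Fusion.RankThree.Normal.Unmoved
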